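import Groth.Agent.BunMod.K54.Theta
import Groth.Agent.BunMod.K140.Defs3
import Groth.Agent.Divis.IdealComap

/-!
# The theta ideal of all families from the theta ideal of the atlas

`fam_form`: if the ideal `J` of `M` pulls back to the theta ideal of the atlas `Z` then it pulls back to the theta ideal
of every admissible family `E` over every `T`.
-/

set_option autoImplicit false

universe u

open CategoryTheory CategoryTheory.Limits AlgebraicGeometry TensorProduct

namespace Groth.Agent.BunMod.K356.FamForm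

open K140.BM Groth.Agent

/-- Equality of ideal sheaves is local. -/
theorem ideal_ext {T : Scheme.{u}} (I J : T.IdealSheafData)
    (h : ∀ t : T, ∃ U : T.Opens, t ∈ U ∧ I.comap U.ι = J.comap U.ι) : I = J := by
  have h1 : ∀ t : T, ∃ V : T.affineOpens, t ∈ V.1 ∧ I.ideal V = J.ideal V := by
    intro t
    obtain ⟨U, htU, hU⟩ := h t
    obtain ⟨_, ⟨V, hV', rfl⟩, htV, hVU⟩ := T.isBasis_affineOpens.exists_subset_of_mem_open htU U.isOpen
    have hr : V ≤ U.ι.opensRange := by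
      rw [Scheme.Opens.opensRange_ι]
      exact hVU
    have hW : IsAffineOpen (U.ι ⁻¹ᵁ V) := hV'.preimage_of_isOpenImmersion U.ι hr
    refine ⟨⟨V, hV'⟩, htV, ?_⟩
    have hiso : IsIso (U.ι.app V) := U.ι.isIso_app V hr
    have hb : Function.Bijective (U.ι.appLE V (U.ι ⁻¹ᵁ V) le_rfl).hom := by
      rw [← Scheme.Hom.app_eq_appLE]
      exact ConcreteCategory.bijective_of_isIso (U.ι.app V)
    have h2 := Groth.Agent.Divis.IdealComap.ideal_comap I U.ι ⟨V, hV'⟩ ⟨U.ι ⁻¹ᵁ V, hW⟩ le_rfl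
    have h3 := Groth.Agent.Divis.IdealComap.ideal_comap J U.ι ⟨V, hV'⟩ ⟨U.ι ⁻¹ᵁ V, hW⟩ le_rfl
    rw [hU, h3] at h2
    rw [← Ideal.comap_map_of_bijective _ hb (I := I.ideal ⟨V, hV'⟩), ← h2, Ideal.comap_map_of_bijective _ hb]
  choose V hV hV2 using h1
  refine Scheme.IdealSheafData.ext_of_iSup_eq_top V ?_ hV2
  rw [eq_top_iff]
  intro t _
  exact TopologicalSpace.Opens.mem_iSup.mpr ⟨t, hV t⟩

theorem isInv_unit (T : Scheme.{u}) : PicF.IsInvertible (Coh.structureModule T) :=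
  fun _ => ⟨⊤, trivial, ⟨(Scheme.Modules.restrictFunctorIsoPullback _).app _ ≪≫ ASBun.K791.Tens.pullUnit _⟩⟩

theorem r_of_iso {X S : Scheme.{u}} {f : X ⟶ S} {T : Over S} {E E' : (PicF.XT f T).Modules} (e : E ≅ E') :
    (ModFun.modProb f).r T E E' :=
  ⟨Coh.structureModule T.left, isInv_unit _, ⟨e.symm ≪≫ (ASBun.K791.Tens.tensRUnit E).symm ≪≫
    ASBun.K791.Tens.tensMap (Iso.refl E) (ASBun.K791.Tens.pullUnit _).symm⟩⟩

variable {k : Type u} [Field k] {X : Scheme.{u}} [X.Over (Spec (CommRingCat.of k))]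
  {Q : ∀ T : Over (B0 k), (ModFun.modProb (st k X)).Fam T → Prop} (A : AtlasC k X Q)

/-- The family form. -/
theorem fam_form [IsProper (st k X)] (hdim : topologicalKrullDim X ≤ 1) {N : X.Modules}
    (hN : FlatMod.IsFinLocFree N)
    (hQf : ∀ (T : Over (B0 k)) (E : (PicF.XT (st k X) T).Modules), Q T E → FlatMod.IsFinLocFree E)
    (hQp : ∀ {T T' : Over (B0 k)} (g : T' ⟶ T) (E : (PicF.XT (st k X) T).Modules), Q T E → Q T' (pl k X g E))
    (φ : ((ModFun.modProb (st k X)).restrict Q).Hom ⊤ A.M)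
    (hφ : ∀ (T : Over (B0 k)) (c : T ⟶ A.Z) (h : ((ModFun.modProb (st k X)).restrict Q).ok T (pl k X c A.E)),
      φ.app T (pl k X c A.E) trivial h = c ≫ A.π)
    (J : A.M.left.IdealSheafData) (hJ : J.comap A.π.left = thetaIdeal k N A.Z A.E)
    (T : Over (B0 k)) (E : (PicF.XT (st k X) T).Modules) (hE : ((ModFun.modProb (st k X)).restrict Q).ok T E) :
    J.comap (φ.app T E trivial hE).left = thetaIdeal k N T E := by
  have key : ∀ (U : T.left.Opens) (c : opn T U ⟶ A.Z), (pl k X c A.E ≅ pl k X (opi T U) E) →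
      U.ι ≫ (φ.app T E trivial hE).left = c.left ≫ A.π.left := by
    intro U c e
    have h1 : φ.app (opn T U) (pl k X (opi T U) E) trivial ⟨trivial, hQp _ _ hE.2⟩ = opi T U ≫ φ.app T E trivial hE :=
      φ.natural (opi T U) E trivial trivial hE ⟨trivial, hQp _ _ hE.2⟩
    have h2 := hφ (opn T U) c ⟨trivial, hQp _ _ A.ok⟩
    have h3 := φ.resp (pl k X c A.E) (pl k X (opi T U) E) trivial ⟨trivial, hQp _ _ A.ok⟩ ⟨trivial, hQp _ _ hE.2⟩
      (r_of_iso e)
    have h4 : opi T U ≫ φ.app T E trivial hE = c ≫ A.π := h1.symm.trans (h3.symm.trans h2)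
    exact congrArg (fun q => q.left) h4
  generalize φ.app T E trivial hE = q at key ⊢
  refine ideal_ext _ _ fun t => ?_
  obtain ⟨U, c, htU, ⟨e⟩⟩ := A.lift T E hE.2 t
  refine ⟨U, htU, ?_⟩
  have hE' := hQf T E hE.2
  have hAE := hQf _ _ A.ok
  have h5 : (J.comap q.left).comap U.ι = (J.comap A.π.left).comap c.left := by
    rw [← Scheme.IdealSheafData.comap_comp, ← Scheme.IdealSheafData.comap_comp]
    exact congrArg (fun q => J.comap q) (key U c e)
  have h6 : (thetaIdeal k N T E).comap U.ι = thetaIdeal k N (opn T U) (pl k X (opi T U) E) :=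
    K54.Theta.thetaIdeal_pl hdim hN (opi T U) hE'
  rw [h5, hJ, K54.Theta.thetaIdeal_pl hdim hN c hAE, h6]
  exact K54.Theta.thetaIdeal_iso hdim hN (hQf _ _ (hQp _ _ A.ok)) (hQf _ _ (hQp _ _ hE.2)) e

end Groth.Agent.BunMod.K356.FamForm
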