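import Groth.Agent.BunMod.K356.FixDet
import Groth.Agent.BunMod.K757.Geo
import Groth.Agent.BunMod.K325.GeomFib
import Groth.Agent.VBCurve.K703.Duality
import Groth.Agent.VBCurve.K703.Stab
import Groth.Agent.VBCurve.K703.Chi
import Groth.Agent.VBCurve.K703.Twist
import Groth.Agent.VBCurve.K708.Coho
import Groth.Agent.Fga.HodgeCore
import Groth.Agent.Surf.K460.FlatExt
import Groth.Agent.Dcoh.StalkT
import Groth.Agent.Dcoh.Spread
import Groth.Agent.FormalA.PullbackQC
import Groth.Agent.VarietyA.LocFreeTens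
import Groth.Agent.S1524

/-!
# The sequence `0 → N → L → Q → 0`

`X` a smooth proper geometrically connected curve over the algebraically closed field `k`, `N` invertible of degree
`g - 1`.

* `SeqOK S`: `S` is short exact, `S.X₁`, `S.X₂` invertible of degrees `g - 1` and `> 2 g - 2`, `S.X₃` coherent;
* `exists_seq`: it exists, with `S.X₁ = N`;
* `SeqOK.h1₂`, `SeqOK.h1₃`: `H¹(E ⊗ L) = 0 = H¹(E ⊗ Q)` for semistable bundles `E` of degree `0` on the geometric fibres;
* `SeqOK.chi₁`, `SeqOK.chi`: `χ(E ⊗ N) = 0`, `χ(E ⊗ L) = χ(E ⊗ Q)`;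
* `cst_shortExact`, `tw_shortExact`: exactness of `0 → N_T → L_T → Q_T → 0` and its twists;
* `SeqOK.ptOK`: the facts `FixDet.PtOK`.
-/

set_option autoImplicit false

universe u

open CategoryTheory CategoryTheory.Limits AlgebraicGeometry TensorProduct

namespace Groth.Agent.BunMod.K356.Seq

open K140.BM K54.Theta K54.FamSec K54.GenPull K707.Base K707.Deg K707.Slope K707.Semi K707.TensL
open Groth.Agent.VarietyA.DegRank

section SES

variable {Y : Scheme.{u}}

/-- `0 → A → B → C → 0` for some maps. -/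
def SES (A B C : Y.Modules) : Prop := ∃ (f : A ⟶ B) (g : B ⟶ C) (w : f ≫ g = 0), (ShortComplex.mk f g w).ShortExact

variable {A B C : Y.Modules} (h : SES A B C)

include h

theorem SES.tens {E : Y.Modules} (hE : FlatMod.IsFlat E) :
    SES (CohB1.tensorMod E A) (CohB1.tensorMod E B) (CohB1.tensorMod E C) := by
  obtain ⟨f, g, w, hS⟩ := h
  have := Dcoh.Stalk.preservesFiniteLimits_tensorBi_obj E hE
  have h1 := hS.map_of_exact (DCoh.tensorBi.obj E)
  exact ⟨(DCoh.tensorBi.obj E).map f, (DCoh.tensorBi.obj E).map g, _, h1⟩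

variable (K : Type u) [Field K] [Y.Over (Spec (CommRingCat.of K))] [IsProper (Y ↘ Spec (CommRingCat.of K))]

theorem SES.chi (h₁ : Coh.IsCoh A) (h₂ : Coh.IsCoh B) (h₃ : Coh.IsCoh C) (h0 : Curv2.euler K Y A = 0) :
    Curv2.euler K Y B = Curv2.euler K Y C := by
  obtain ⟨f, g, w, hS⟩ := h
  have h1 := Groth.Agent.S1524.result K Y (ShortComplex.mk f g w) hS h₁ h₂ h₃
  have h2 : Curv2.euler K Y B = Curv2.euler K Y A + Curv2.euler K Y C := h1
  rw [h2, h0, zero_add]

include K in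
theorem SES.h1 (hdim : topologicalKrullDim Y ≤ 1) (hB : Subsingleton (Coh.HH Y B 1)) :
    Subsingleton (Coh.HH Y C 1) := by
  obtain ⟨f, g, w, hS⟩ := h
  have : Epi g := hS.epi_g
  exact K708.Coho.subsingleton_H1_of_epi K hdim g hB

end SES

section Curve

variable {K : Type u} [Field K] [IsAlgClosed K] {Y : Scheme.{u}} [Y.Over (Spec (CommRingCat.of K))] [IsIntegral Y]
  [IsProper (Y ↘ Spec (CommRingCat.of K))] [Smooth (Y ↘ Spec (CommRingCat.of K))]

/-- `H¹(E ⊗ L) = 0` for `E` semistable of degree zero and `deg L > 2 g - 2`. -/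
theorem h1_tw (hdim : topologicalKrullDim Y = 1) {E L : Y.Modules} {r : ℕ} (hE : FlatMod.IsFinLocFreeOfRank r E)
    (hss : ModFun.IsSlopeSemistable K Y E r) (hdeg : Curv2.deg K Y E r = 0) (hL : PicF.IsInvertible L)
    (hd : 2 * (Curv2.genus K Y : ℤ) - 2 < Curv2.deg K Y L 1) :
    Subsingleton (Coh.HH Y (CohB1.tensorMod E L) 1) := by
  have C : Crv K Y := Crv.of_smooth hdim
  obtain ⟨D⟩ := K703.Duality.nonempty_dualizing K Y hdim
  have hF := K757.Geo.rank_tw C hE hL
  have hFv := isFinLocFree_of_rank hF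
  have hSS : SS K (CohB1.tensorMod E L) := (ss_iff C hF).2 (K757.Geo.ssk_tw C hE hL hss)
  have hdF : dg K (CohB1.tensorMod E L) = r * Curv2.deg K Y L 1 := by
    rw [dg_of_rank K hF, K757.Geo.deg_tw C hE hL, hdeg, zero_add]
  refine D.subsingleton_h1 (coh_of_vb hFv).1 fun φ => ?_
  rcases Nat.eq_zero_or_pos r with h0 | h0
  · have h1 := isZero_of_rk_eq_zero C hFv ((rk_of_rank hF).trans h0)
    exact h1.eq_of_src _ _
  · by_contra hφ
    have h1 := K703.Stab.slope_le_of_hom C hSS hFv D.inv φ hφ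
    have h2 : dg K D.w = 2 * (Curv2.genus K Y : ℤ) - 2 := by
      rw [K703.Stab.dg_of_inv D.inv, D.deg_w_of_isAlgClosed C.dim]
    rw [hdF, h2, rk_of_rank hF, mul_comm] at h1
    have h3 : (0 : ℤ) < r := by exact_mod_cast h0
    exact absurd (le_of_mul_le_mul_right h1 h3) (not_le.2 hd)

/-- `χ(E ⊗ N) = 0` for `E` of degree zero and `deg N = g - 1`. -/
theorem chi_tw (hdim : topologicalKrullDim Y = 1) {E N : Y.Modules} {r : ℕ} (hE : FlatMod.IsFinLocFreeOfRank r E)
    (hdeg : Curv2.deg K Y E r = 0) (hN : PicF.IsInvertible N)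
    (hd : Curv2.deg K Y N 1 = (Curv2.genus K Y : ℤ) - 1) :
    Curv2.euler K Y (CohB1.tensorMod E N) = 0 := by
  have C : Crv K Y := Crv.of_smooth hdim
  have h1 := K757.Geo.deg_tw C hE hN
  rw [hdeg, hd, Curv2.deg, K703.Chi.euler_structure K hdim] at h1
  linarith

omit [IsIntegral Y] [Smooth (Y ↘ Spec (CommRingCat.of K))] in
theorem chi_inv [IsIntegral Y] (hdim : topologicalKrullDim Y = 1) {N : Y.Modules}
    (hd : Curv2.deg K Y N 1 = (Curv2.genus K Y : ℤ) - 1) : Curv2.euler K Y N = 0 := by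
  rw [Curv2.deg, K703.Chi.euler_structure K hdim] at hd
  push_cast at hd
  linarith

end Curve

section Exists

variable {k : Type u} [Field k] [IsAlgClosed k] {X : Scheme.{u}} [X.Over (Spec (CommRingCat.of k))]
  [IsProper (X ↘ Spec (CommRingCat.of k))] [Smooth (X ↘ Spec (CommRingCat.of k))]
  [GeometricallyConnected (X ↘ Spec (CommRingCat.of k))]

/-- Invertible modules of large degree. -/
theorem exists_large (hdim : topologicalKrullDim X = 1) [IsIntegral X] (n : ℕ) :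
    ∃ M : X.Modules, PicF.IsInvertible M ∧ (n : ℤ) ≤ Curv2.deg k X M 1 := by
  have C : Crv k X := Crv.of_smooth hdim
  obtain ⟨L, hL, hLa⟩ := K325.GeomFib.exists_pol k X hdim.le
  have h0 : 0 < dg k ((Scheme.Modules.pullback (𝟙 X)).obj L) :=
    K325.GeomFib.dg_pos (s := 𝟙 _) (p := 𝟙 X) (IsPullback.of_horiz_isIso ⟨by simp⟩) hdim hL hLa
  have hL' := Groth.Agent.Fdesc.LocGen.isInvertible_pullback (𝟙 X) hL
  rw [dg_of_rank k (rank_one_iff.2 hL')] at h0
  induction n with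
  | zero => exact ⟨_, Groth.Agent.Fdesc.LocGen.isInvertible_structureModule, by rw [K703.Chi.deg_structure]; simp⟩
  | succ n ih =>
    obtain ⟨M, hM, hn⟩ := ih
    refine ⟨CohB1.tensorMod M ((Scheme.Modules.pullback (𝟙 X)).obj L),
      rank_one_iff.1 (K757.Geo.rank_tw C (rank_one_iff.2 hM) hL'), ?_⟩
    rw [K757.Geo.deg_tw C (rank_one_iff.2 hM) hL']
    push_cast
    linarith

omit [IsAlgClosed k] [IsProper (X ↘ Spec (CommRingCat.of k))] [Smooth (X ↘ Spec (CommRingCat.of k))]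
  [GeometricallyConnected (X ↘ Spec (CommRingCat.of k))] in
variable (k) in
/-- The properties of the sequence `0 → N → L → Q → 0`. -/
structure SeqOK (S : ShortComplex X.Modules) : Prop where
  ex : S.ShortExact
  inv₁ : PicF.IsInvertible S.X₁
  inv₂ : PicF.IsInvertible S.X₂
  coh₃ : Coh.IsCoh S.X₃
  deg₁ : Curv2.deg k X S.X₁ 1 = (Curv2.genus k X : ℤ) - 1
  deg₂ : 2 * (Curv2.genus k X : ℤ) - 2 < Curv2.deg k X S.X₂ 1

/-- **Existence of the sequence.** -/
theorem exists_seq (hdim : topologicalKrullDim X = 1) {N : X.Modules} (hN : PicF.IsInvertible N)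
    (hd : Curv2.deg k X N 1 = (Curv2.genus k X : ℤ) - 1) :
    ∃ S : ShortComplex X.Modules, S.X₁ = N ∧ SeqOK k S := by
  have : IsIntegral X := K705.Setup.isIntegral_of_geomConn k X
  have C : Crv k X := Crv.of_smooth hdim
  have hN' := isLocNoeth C
  obtain ⟨M, hM, hdM⟩ := exists_large (k := k) hdim (2 * Curv2.genus k X)
  obtain ⟨s, hs⟩ : ∃ s : Coh.structureModule X ⟶ M, s ≠ 0 := by
    by_contra hcon
    push Not at hcon
    have h1 := K703.Twist.h0_eq_zero hcon
    have h2 : Module.finrank k (Coh.HH X M 0) = 0 := Module.finrank_zero_of_subsingleton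
    have h3 := K703.Chi.rr k hdim M 1
    rw [h2] at h3
    push_cast at h3 hdM
    have h4 : (0 : ℤ) ≤ Module.finrank k (Coh.HH X M 1) := Int.natCast_nonneg _
    linarith
  obtain ⟨S, hS, ⟨e₁⟩, ⟨e₂⟩, hc, -⟩ := Groth.Agent.Fga.HodgeCore.exists_ses hM hN s hs
  have h2 : Curv2.deg k X S.X₂ 1 = Curv2.deg k X M 1 + Curv2.deg k X N 1 := by
    rw [K757.Geo.deg_congr ⟨e₂⟩, K757.Geo.deg_tw C (rank_one_iff.2 hM) hN]
    push_cast
    ring
  have h3 : PicF.IsInvertible S.X₂ :=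
    rank_one_iff.1 (K757.Geo.rank_iso ⟨e₂.symm⟩ (K757.Geo.rank_tw C (rank_one_iff.2 hM) hN))
  let S' : ShortComplex X.Modules := ShortComplex.mk (e₁.inv ≫ S.f) S.g (by rw [Category.assoc, S.zero, comp_zero])
  have e : S ≅ S' := ShortComplex.isoMk e₁ (Iso.refl _) (Iso.refl _) (by simp [S']) (by simp [S'])
  refine ⟨S', rfl, ⟨ShortComplex.shortExact_of_iso e hS, hN, h3, hc, hd, ?_⟩⟩
  change 2 * (Curv2.genus k X : ℤ) - 2 < Curv2.deg k X S.X₂ 1
  rw [h2, hd]
  push_cast at hdM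
  have h4 : (0 : ℤ) ≤ Curv2.genus k X := Int.natCast_nonneg _
  linarith

end Exists

section Fam

variable {k : Type u} [Field k] {X : Scheme.{u}} [X.Over (Spec (CommRingCat.of k))]

omit [X.Over (Spec (CommRingCat.of k))] in
/-- Everything is flat over a field. -/
theorem isFlatOver_field (q : X ⟶ Spec (CommRingCat.of k)) (M : X.Modules) : FlatMod.IsFlatOver q M := by
  intro x
  have h : IsField ((Spec (CommRingCat.of k)).presheaf.stalk (q.base x)) := by
    have hs : Subsingleton ↥(Spec (CommRingCat.of k)) := inferInstanceAs (Subsingleton (PrimeSpectrum k))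
    have hi : IsIntegral (Spec (CommRingCat.of k)) := inferInstance
    have he : q.base x = genericPoint ↥(Spec (CommRingCat.of k)) := Subsingleton.elim _ _
    rw [he]
    exact Field.toIsField (Spec (CommRingCat.of k)).functionField
  let _ := FlatMod.moduleStalkOver q M x
  let _ := h.toField
  change Module.Flat _ _
  infer_instance

/-- The constant family of a short exact sequence. -/
theorem cst_shortExact (T : Over (B0 k)) {S : ShortComplex X.Modules} (hS : S.ShortExact) :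
    (S.map (Scheme.Modules.pullback (pullback.fst (st k X) T.hom))).ShortExact :=
  Groth.Agent.Surf.K460.FlatExt.shortExact_pullback (IsPullback.of_hasPullback (st k X) T.hom) S hS
    (isFlatOver_field (st k X) S.X₃)

theorem ses_cst (T : Over (B0 k)) {S : ShortComplex X.Modules} (hS : S.ShortExact) :
    SES (cst k T S.X₁) (cst k T S.X₂) (cst k T S.X₃) :=
  ⟨(Scheme.Modules.pullback (pullback.fst (st k X) T.hom)).map S.f,
    (Scheme.Modules.pullback (pullback.fst (st k X) T.hom)).map S.g, _, cst_shortExact T hS⟩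

/-- The twists of the constant family of a short exact sequence. -/
theorem ses_tw (T : Over (B0 k)) {S : ShortComplex X.Modules} (hS : S.ShortExact)
    {E : (PicF.XT (st k X) T).Modules} (hE : FlatMod.IsFlat E) :
    SES (CohB1.tensorMod E (cst k T S.X₁)) (CohB1.tensorMod E (cst k T S.X₂)) (CohB1.tensorMod E (cst k T S.X₃)) :=
  (ses_cst T hS).tens hE

end Fam

section Points

variable {k : Type u} [Field k] [IsAlgClosed k] {X : Scheme.{u}} [X.Over (Spec (CommRingCat.of k))]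
  [IsProper (X ↘ Spec (CommRingCat.of k))] [Smooth (X ↘ Spec (CommRingCat.of k))]
  [GeometricallyConnected (X ↘ Spec (CommRingCat.of k))] {Ω : Type u} [Field Ω]

omit [IsAlgClosed k] [Smooth (X ↘ Spec (CommRingCat.of k))] [GeometricallyConnected (X ↘ Spec (CommRingCat.of k))] in
/-- Degrees and genera of the fibres. -/
theorem deg_cst (s : Spec (CommRingCat.of Ω) ⟶ B0 k) {L : X.Modules} (hL : Coh.IsQCoh L) (n : ℕ) :
    letI : (PicF.XT (st k X) (Over.mk s)).Over (Spec (CommRingCat.of Ω)) := ⟨PicF.XTproj (st k X) (Over.mk s)⟩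
    Curv2.deg Ω (PicF.XT (st k X) (Over.mk s)) (cst k (Over.mk s) L) n = Curv2.deg k X L n ∧
      Curv2.genus Ω (PicF.XT (st k X) (Over.mk s)) = Curv2.genus k X := by
  obtain ⟨φ, hφ⟩ : ∃ φ : k →+* Ω, s = Spec.map (CommRingCat.ofHom φ) :=
    ⟨(Spec.preimage s).hom, by rw [CommRingCat.ofHom_hom, Spec.map_preimage]⟩
  subst hφ
  let _ : Algebra k Ω := φ.toAlgebra
  let _ : (PicF.XT (st k X) (Over.mk (Spec.map (CommRingCat.ofHom φ)))).Over (Spec (CommRingCat.of Ω)) :=
    ⟨PicF.XTproj (st k X) (Over.mk (Spec.map (CommRingCat.ofHom φ)))⟩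
  have H : IsPullback (pullback.fst (st k X) (Spec.map (CommRingCat.ofHom φ)))
      (PicF.XT (st k X) (Over.mk (Spec.map (CommRingCat.ofHom φ))) ↘ Spec (CommRingCat.of Ω))
      (X ↘ Spec (CommRingCat.of k)) (Spec.map (CommRingCat.ofHom φ)) := IsPullback.of_hasPullback _ _
  exact ⟨Groth.Agent.CurvesB.VABaseChange.deg_eq (k := k) (K := Ω) H L hL n,
    Groth.Agent.CurvesB.VABaseChange.genus_eq (k := k) (K := Ω) H⟩

omit [IsAlgClosed k] in
/-- The fibres are integral, proper, smooth curves. -/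
theorem fib (hdim : topologicalKrullDim X = 1) (s : Spec (CommRingCat.of Ω) ⟶ B0 k) :
    IsIntegral (PicF.XT (st k X) (Over.mk s)) ∧ IsProper (PicF.XTproj (st k X) (Over.mk s)) ∧
      Smooth (PicF.XTproj (st k X) (Over.mk s)) ∧ topologicalKrullDim (PicF.XT (st k X) (Over.mk s)) = 1 :=
  ⟨K757.Geo.isIntegral_XT (f := st k X) s, inferInstanceAs (IsProper (pullback.snd (st k X) s)),
    inferInstanceAs (Smooth (pullback.snd (st k X) s)), K532.Fine.dim_XT (st k X) hdim s⟩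

omit [IsAlgClosed k] [IsProper (X ↘ Spec (CommRingCat.of k))] [Smooth (X ↘ Spec (CommRingCat.of k))]
  [GeometricallyConnected (X ↘ Spec (CommRingCat.of k))] in
theorem inv_cst (T : Over (B0 k)) {L : X.Modules} (hL : PicF.IsInvertible L) : PicF.IsInvertible (cst k T L) :=
  Groth.Agent.Fdesc.LocGen.isInvertible_pullback (pullback.fst (st k X) T.hom) hL

omit [IsAlgClosed k] [IsProper (X ↘ Spec (CommRingCat.of k))] [Smooth (X ↘ Spec (CommRingCat.of k))]
  [GeometricallyConnected (X ↘ Spec (CommRingCat.of k))] in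
theorem coh_cst (T : Over (B0 k)) {L : X.Modules} (hL : Coh.IsCoh L) : Coh.IsCoh (cst k T L) :=
  Groth.Agent.FormalA.PullbackQC.isCoh_pullback (pullback.fst (st k X) T.hom) L hL

variable [IsAlgClosed Ω] (hdim : topologicalKrullDim X = 1) {S : ShortComplex X.Modules} (h : SeqOK k S) {r : ℕ}
  {s : Spec (CommRingCat.of Ω) ⟶ B0 k} {E : (PicF.XT (st k X) (tpt s)).Modules} (hE : SSB r s E)

include hdim h hE

theorem SeqOK.h1₂ : Subsingleton (Coh.HH _ (CohB1.tensorMod E (cst k (tpt s) S.X₂)) 1) := by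
  let _ : (PicF.XT (st k X) (Over.mk s)).Over (Spec (CommRingCat.of Ω)) := ⟨PicF.XTproj (st k X) (Over.mk s)⟩
  obtain ⟨h1, h2, h3, h4⟩ := fib hdim s
  obtain ⟨e1, e2, e3⟩ := hE
  obtain ⟨d1, d2⟩ := deg_cst s (Groth.Agent.Ega2.QCohLocal.isQCoh_of_isInvertible h.inv₂) 1
  have : IsProper (PicF.XT (st k X) (Over.mk s) ↘ Spec (CommRingCat.of Ω)) := h2
  have : Smooth (PicF.XT (st k X) (Over.mk s) ↘ Spec (CommRingCat.of Ω)) := h3
  refine h1_tw (K := Ω) h4 e1 e3 e2 (inv_cst _ h.inv₂) ?_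
  rw [d1, d2]
  exact h.deg₂

theorem SeqOK.h1₃ : Subsingleton (Coh.HH _ (CohB1.tensorMod E (cst k (tpt s) S.X₃)) 1) := by
  have h12 := h.h1₂ hdim hE
  let _ : (PicF.XT (st k X) (Over.mk s)).Over (Spec (CommRingCat.of Ω)) := ⟨PicF.XTproj (st k X) (Over.mk s)⟩
  obtain ⟨h1, h2, h3, h4⟩ := fib hdim s
  have : IsProper (PicF.XT (st k X) (Over.mk s) ↘ Spec (CommRingCat.of Ω)) := h2
  exact (ses_tw (tpt s) h.ex (Dcoh.Spread.isFlat_of_isFinLocFree (isFinLocFree_of_rank hE.1))).h1 Ω h4.le h12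

theorem SeqOK.chi₁ :
    letI : (PicF.XT (st k X) (Over.mk s)).Over (Spec (CommRingCat.of Ω)) := ⟨PicF.XTproj (st k X) (Over.mk s)⟩
    Curv2.euler Ω (PicF.XT (st k X) (Over.mk s)) (CohB1.tensorMod E (cst k (tpt s) S.X₁)) = 0 := by
  let _ : (PicF.XT (st k X) (Over.mk s)).Over (Spec (CommRingCat.of Ω)) := ⟨PicF.XTproj (st k X) (Over.mk s)⟩
  obtain ⟨h1, h2, h3, h4⟩ := fib hdim s
  obtain ⟨e1, e2, e3⟩ := hE
  obtain ⟨d1, d2⟩ := deg_cst s (Groth.Agent.Ega2.QCohLocal.isQCoh_of_isInvertible h.inv₁) 1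
  have : IsProper (PicF.XT (st k X) (Over.mk s) ↘ Spec (CommRingCat.of Ω)) := h2
  have : Smooth (PicF.XT (st k X) (Over.mk s) ↘ Spec (CommRingCat.of Ω)) := h3
  refine chi_tw (K := Ω) h4 e1 e2 (inv_cst _ h.inv₁) ?_
  rw [d1, d2]
  exact h.deg₁

theorem SeqOK.chi :
    letI : (PicF.XT (st k X) (Over.mk s)).Over (Spec (CommRingCat.of Ω)) := ⟨PicF.XTproj (st k X) (Over.mk s)⟩
    Curv2.euler Ω (PicF.XT (st k X) (Over.mk s)) (CohB1.tensorMod E (cst k (tpt s) S.X₂)) =
      Curv2.euler Ω (PicF.XT (st k X) (Over.mk s)) (CohB1.tensorMod E (cst k (tpt s) S.X₃)) := by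
  have h0 := h.chi₁ hdim hE
  let _ : (PicF.XT (st k X) (Over.mk s)).Over (Spec (CommRingCat.of Ω)) := ⟨PicF.XTproj (st k X) (Over.mk s)⟩
  obtain ⟨h1, h2, h3, h4⟩ := fib hdim s
  obtain ⟨e1, e2, e3⟩ := hE
  have : IsProper (PicF.XT (st k X) (Over.mk s) ↘ Spec (CommRingCat.of Ω)) := h2
  have hc : ∀ {L : X.Modules}, Coh.IsCoh L → Coh.IsCoh (CohB1.tensorMod E (cst k (tpt s) L)) := fun hL =>
    Groth.Agent.VarietyA.LocFreeTens.isCoh_tensor e1 (coh_cst _ hL)
  have hi : ∀ {L : X.Modules}, PicF.IsInvertible L → Coh.IsCoh L := fun hL =>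
    Groth.Agent.VarietyA.CurveFin.isCoh_of_isInvertible hL
  exact (ses_tw (tpt s) h.ex (Dcoh.Spread.isFlat_of_isFinLocFree (isFinLocFree_of_rank e1))).chi Ω
    (hc (hi h.inv₁)) (hc (hi h.inv₂)) (hc h.coh₃) h0

end Points

section Pt

variable {k : Type u} [Field k] [IsAlgClosed k] {X : Scheme.{u}} [X.Over (Spec (CommRingCat.of k))]
  [IsProper (X ↘ Spec (CommRingCat.of k))] [Smooth (X ↘ Spec (CommRingCat.of k))]
  [GeometricallyConnected (X ↘ Spec (CommRingCat.of k))]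

/-- The facts needed at a `k`-point. -/
theorem SeqOK.ptOK (hdim : topologicalKrullDim X = 1) {S : ShortComplex X.Modules} (h : SeqOK k S) {r : ℕ}
    {s : Spec (CommRingCat.of k) ⟶ B0 k} {E : (PicF.XT (st k X) (tpt s)).Modules} (hE : SSB r s E) :
    FixDet.PtOK s S.X₂ S.X₃ E where
  cohL := coh_cst _ (Groth.Agent.VarietyA.CurveFin.isCoh_of_isInvertible h.inv₂)
  cohQ := coh_cst _ h.coh₃
  euler := by
    let _ : (PicF.XT (st k X) (Over.mk s)).Over (Spec (CommRingCat.of k)) := ⟨PicF.XTproj (st k X) (Over.mk s)⟩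
    obtain ⟨h1, h2, h3, h4⟩ := fib hdim s
    have : IsProper (PicF.XT (st k X) (Over.mk s) ↘ Spec (CommRingCat.of k)) := h2
    have hi : ∀ {L : X.Modules}, PicF.IsInvertible L → Coh.IsCoh (cst k (Over.mk s) L) := fun hL =>
      coh_cst _ (Groth.Agent.VarietyA.CurveFin.isCoh_of_isInvertible hL)
    obtain ⟨d1, d2⟩ := deg_cst s (Groth.Agent.Ega2.QCohLocal.isQCoh_of_isInvertible h.inv₁) 1
    exact (ses_cst (Over.mk s) h.ex).chi k (hi h.inv₁) (hi h.inv₂) (coh_cst _ h.coh₃)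
      (chi_inv (K := k) h4 (by rw [d1, d2]; exact h.deg₁))
  h1L := h.h1₂ hdim hE
  h1Q := h.h1₃ hdim hE

end Pt

end Groth.Agent.BunMod.K356.Seq
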