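import Groth.Agent.BunMod.K356.ThetaMain
import Groth.Agent.BunMod.K356.FamForm
import Groth.Agent.BunMod.K757.OnM
import Groth.Agent.BunMod.K757.SubDet
import Groth.Agent.BunMod.K54.SuppC
import Groth.Agent.BunMod.K140.AtlasLift

/-!
# The theta divisor of a best approximation

`(M, φ)` a best approximation of a problem of semistable bundles of degree `0`: the theta ideal of a family is the
pull-back of the vanishing ideal of the theta locus of `M`, which is effective Cartier; given the density of the stable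
part of the support of the theta ideal of one smooth atlas with lifting of first order deformations (`Dens`).
-/

set_option autoImplicit false

universe u

open CategoryTheory CategoryTheory.Limits AlgebraicGeometry TensorProduct

namespace Groth.Agent.BunMod.K356.ThetaBest

open K140.BM K822.XTD

variable {k : Type u} [Field k] {X : Scheme.{u}} [X.Over (Spec (CommRingCat.of k))]

/-- The stable part of the support of the theta ideal of the atlas is dense. -/
def Dens {Q : ∀ T : Over (B0 k), (ModFun.modProb (st k X)).Fam T → Prop} (A : AtlasC k X Q) (N : X.Modules) : Prop :=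
  ((thetaIdeal k N A.Z A.E).support : Set A.Z.left) ⊆
    closure (K562.Jump.stab A ∩ ((thetaIdeal k N A.Z A.E).support : Set A.Z.left))

/-- The ideal of the theta locus is effective Cartier and pulls back to the theta ideals of families. -/
structure Good {Q : ∀ T : Over (B0 k), (ModFun.modProb (st k X)).Fam T → Prop} {M : Over (B0 k)}
    (φ : ((ModFun.modProb (st k X)).restrict Q).Hom ⊤ M) (N : X.Modules) : Prop where
  fam : ∀ (T : Over (B0 k)) (E : (PicF.XT (st k X) T).Modules) (hE : ((ModFun.modProb (st k X)).restrict Q).ok T E),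
    (Scheme.IdealSheafData.vanishingIdeal ⟨BunMod.thetaLocus (st k X) Q φ N, isClosed_closure⟩).comap
      (φ.app T E trivial hE).left = thetaIdeal k N T E
  eff : BlowUp.IsEffCartierIdeal
    (Scheme.IdealSheafData.vanishingIdeal ⟨BunMod.thetaLocus (st k X) Q φ N, isClosed_closure⟩)

variable [IsAlgClosed k] [CharZero k]
  [IsProper (X ↘ Spec (CommRingCat.of k))] [Smooth (X ↘ Spec (CommRingCat.of k))]
  [GeometricallyConnected (X ↘ Spec (CommRingCat.of k))] (hdim : topologicalKrullDim X = 1)
  {N : X.Modules} (hN : PicF.IsInvertible N) (hNd : Curv2.deg k X N 1 = (Curv2.genus k X : ℤ) - 1)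

include hdim hN hNd

/-- The theta divisor of a best approximation, from an atlas. -/
theorem best {r : ℕ} {Q : ∀ T : Over (B0 k), (ModFun.modProb (st k X)).Fam T → Prop} (hQ : SubProb k X r Q)
    (hadm : ∀ {E₀ N₀ : (PicF.XT (st k X) (T0 k)).Modules}, Q (T0 k) E₀ → PicF.IsInvertible N₀ →
      K562.AdmExt.Adm Q E₀ N₀) (A : AtlasC k X Q) (hsm : Smooth A.Z.hom) (hl : K562.LiftPt.HasLift Q A.Z A.E)
    (hd : Dens A N) {M : Over (B0 k)} {φ : ((ModFun.modProb (st k X)).restrict Q).Hom ⊤ M}
    (hM : ModFun.IsBestApprox ⊤ ((ModFun.modProb (st k X)).restrict Q) M φ) : Good φ N := by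
  obtain ⟨-, e, he⟩ := K757.OnM.exists_ofIso A (fun g F h => hQ.pull g F h) hM
  obtain ⟨-, h1, h2⟩ := ThetaMain.core hdim hQ (K757.OnM.ofIso A e) hadm hsm hl hN hNd φ
    (fun T _ c h => he T c h) (K54.SuppC.suppCond hdim hN hNd hQ (K757.OnM.ofIso A e)) hd
  exact ⟨fun T E hE => FamForm.fam_form (K757.OnM.ofIso A e) hdim.le (Seq.isFinLocFree_inv hN)
    (fun T E h => K707.Base.isFinLocFree_of_rank (hQ.le _ _ h).1) (fun g E h => hQ.pull g E h) φ he _ h1 T E hE, h2⟩

/-- Semistable bundles of degree `0`. -/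
theorem uss {r : ℕ} (hr : 1 ≤ r)
    (hd : ∀ A : AtlasC k X (BunMod.ussOK (st k X) r 0), Smooth A.Z.hom →
      K562.LiftPt.HasLift (BunMod.ussOK (st k X) r 0) A.Z A.E → Dens A N)
    {M : Over (B0 k)} {φ : (BunMod.USS (st k X) r 0).Hom ⊤ M}
    (hM : ModFun.IsBestApprox ⊤ (BunMod.USS (st k X) r 0) M φ) : Good φ N := by
  have : IsIntegral X := K705.Setup.isIntegral_of_geomConn k X
  obtain ⟨A, hl, hsm⟩ := exists_atlasC_lift (k := k) hdim hr
  exact best hdim hN hNd (subProb_all r) (fun h hN => K562.AdmExt.uss hdim.le hr h hN) A hsm hl (hd A hsm hl) hM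

/-- Semistable bundles with fixed determinant of degree `0`. -/
theorem ussdet {r : ℕ} (hr : 2 ≤ r) {L : X.Modules} (hL : PicF.IsInvertible L) (hLd : Curv2.deg k X L 1 = 0)
    (hd : ∀ A : AtlasC k X (BunMod.ussDetOK (st k X) r L), Smooth A.Z.hom →
      K562.LiftPt.HasLift (BunMod.ussDetOK (st k X) r L) A.Z A.E → Dens A N)
    {M : Over (B0 k)} {φ : (BunMod.USSdet (st k X) r L).Hom ⊤ M}
    (hM : ModFun.IsBestApprox ⊤ (BunMod.USSdet (st k X) r L) M φ) : Good φ N := by
  have : IsIntegral X := K705.Setup.isIntegral_of_geomConn k X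
  obtain ⟨A, hl, hsm⟩ := exists_atlasC_det_lift (k := k) hdim (by omega : 1 ≤ r) hL hLd
  exact best hdim hN hNd (K757.SubDet.subProb hdim hL hLd) (fun h hN => K562.AdmExt.ussDet hdim.le hr h hN) A hsm hl
    (hd A hsm hl) hM

end Groth.Agent.BunMod.K356.ThetaBest
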