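import Groth.Agent.BunMod.K356.ThetaBest
import Groth.Agent.BunMod.K562.ThetaAt

/-!
# The theta divisor on moduli of semistable bundles of degree `0`

`k` algebraically closed of characteristic `0`, `X` a smooth proper connected curve of genus at least `2`, `N` an
invertible sheaf of degree `g - 1`, `(M, φ)` a best approximation of the problem of semistable bundles of degree `0` of
rank `r` (with or without fixed determinant). The vanishing ideal of the theta locus of `M` is effective Cartier and
pulls back to the theta ideals of families.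

* `uss`: rank `r ≥ 1`, no condition on the determinant;
* `ussdet`: rank `r ≥ 2` and determinant `L` of degree `0`.
-/

set_option autoImplicit false

universe u

open CategoryTheory CategoryTheory.Limits AlgebraicGeometry TensorProduct

namespace Groth.Agent.BunMod.K356.ThetaFin

open K140.BM K822.XTD

variable {k : Type u} [Field k] {X : Scheme.{u}} [X.Over (Spec (CommRingCat.of k))] [IsAlgClosed k] [CharZero k]
  [IsProper (X ↘ Spec (CommRingCat.of k))] [Smooth (X ↘ Spec (CommRingCat.of k))]
  [GeometricallyConnected (X ↘ Spec (CommRingCat.of k))] (hdim : topologicalKrullDim X = 1)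
  (hg : 2 ≤ Curv2.genus k X) {N : X.Modules} (hN : PicF.IsInvertible N)
  (hNd : Curv2.deg k X N 1 = (Curv2.genus k X : ℤ) - 1)

include hdim hg hN hNd

/-- The theta divisor on the moduli of semistable bundles of rank `r ≥ 1` and degree `0`. -/
theorem uss {r : ℕ} (hr : 1 ≤ r) {M : Over (B0 k)} {φ : (BunMod.USS (st k X) r 0).Hom ⊤ M}
    (hM : ModFun.IsBestApprox ⊤ (BunMod.USS (st k X) r 0) M φ) : ThetaBest.Good φ N :=
  ThetaBest.uss hdim hN hNd hr (fun A _ hl => (K562.ThetaAt.facts_uss hdim hg hN hNd hr A hl).dens) hM

/-- The theta divisor on the moduli of semistable bundles of rank `r ≥ 2` and fixed determinant of degree `0`. -/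
theorem ussdet {r : ℕ} (hr : 2 ≤ r) {L : X.Modules} (hL : PicF.IsInvertible L) (hLd : Curv2.deg k X L 1 = 0)
    {M : Over (B0 k)} {φ : (BunMod.USSdet (st k X) r L).Hom ⊤ M}
    (hM : ModFun.IsBestApprox ⊤ (BunMod.USSdet (st k X) r L) M φ) : ThetaBest.Good φ N :=
  ThetaBest.ussdet hdim hN hNd hr hL hLd
    (fun A _ hl => (K562.ThetaAt.facts_ussDet hdim hg hN hNd hr hL hLd A hl).dens) hM

end Groth.Agent.BunMod.K356.ThetaFin
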