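import Groth.Agent.BunMod.K356.Orbit
import Mathlib.LinearAlgebra.Matrix.GeneralLinearGroup.Defs
import Mathlib.LinearAlgebra.Matrix.NonsingularInverse
import Mathlib.Algebra.MvPolynomial.Funext
import Mathlib.LinearAlgebra.Matrix.MvPolynomial

/-!
# The algebra of regular functions on `GL_b × GL_a`

`H k b a` is the algebra of functions on `GL_b(k) × GL_a(k)` generated by the entries of the matrices and of their
inverses.
-/

set_option autoImplicit false

universe u

open Matrix

namespace Groth.Agent.BunMod.K356.RegFun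

variable (k : Type u) [Field k] (b a : ℕ)

/-- The group. -/
abbrev Gr : Type u := GL (Fin b) k × GL (Fin a) k

/-- The generators. -/
def gen : Set (Gr k b a → k) :=
  (Set.range fun p : Fin b × Fin b => fun g : Gr k b a => (g.1 : Matrix (Fin b) (Fin b) k) p.1 p.2) ∪
  (Set.range fun p : Fin b × Fin b => fun g : Gr k b a => ((g.1⁻¹ : GL (Fin b) k) : Matrix (Fin b) (Fin b) k) p.1 p.2) ∪
  (Set.range fun p : Fin a × Fin a => fun g : Gr k b a => (g.2 : Matrix (Fin a) (Fin a) k) p.1 p.2) ∪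
  (Set.range fun p : Fin a × Fin a => fun g : Gr k b a => ((g.2⁻¹ : GL (Fin a) k) : Matrix (Fin a) (Fin a) k) p.1 p.2)

/-- The algebra of regular functions. -/
def H : Subalgebra k (Gr k b a → k) := Algebra.adjoin k (gen k b a)

theorem finite_gen : (gen k b a).Finite :=
  (((Set.finite_range _).union (Set.finite_range _)).union (Set.finite_range _)).union (Set.finite_range _)

instance : Algebra.FiniteType k (H k b a) :=
  (Subalgebra.fg_iff_finiteType _).1 ⟨(finite_gen k b a).toFinset, by rw [Set.Finite.coe_toFinset]; rfl⟩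

variable {k b a}

/-- Entries. -/
def x₁ (i j : Fin b) : H k b a :=
  ⟨fun g => (g.1 : Matrix (Fin b) (Fin b) k) i j, Algebra.subset_adjoin (Or.inl (Or.inl (Or.inl ⟨(i, j), rfl⟩)))⟩

/-- Entries of the inverse. -/
def y₁ (i j : Fin b) : H k b a :=
  ⟨fun g => ((g.1⁻¹ : GL (Fin b) k) : Matrix (Fin b) (Fin b) k) i j,
    Algebra.subset_adjoin (Or.inl (Or.inl (Or.inr ⟨(i, j), rfl⟩)))⟩

/-- Entries. -/
def x₂ (i j : Fin a) : H k b a :=
  ⟨fun g => (g.2 : Matrix (Fin a) (Fin a) k) i j, Algebra.subset_adjoin (Or.inl (Or.inr ⟨(i, j), rfl⟩))⟩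

/-- Entries of the inverse. -/
def y₂ (i j : Fin a) : H k b a :=
  ⟨fun g => ((g.2⁻¹ : GL (Fin a) k) : Matrix (Fin a) (Fin a) k) i j, Algebra.subset_adjoin (Or.inr ⟨(i, j), rfl⟩)⟩

/-- The universal matrix. -/
def u₁ : GL (Fin b) (H k b a) where
  val := Matrix.of x₁
  inv := Matrix.of y₁
  val_inv := by
    refine Matrix.ext fun i j => Subtype.ext (funext fun g => ?_)
    rw [Matrix.mul_apply, AddSubmonoidClass.coe_finsetSum, Finset.sum_apply]
    have h1 : (g.1 : Matrix (Fin b) (Fin b) k) * ((g.1⁻¹ : GL (Fin b) k) : Matrix (Fin b) (Fin b) k) = 1 := by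
      rw [← Units.val_mul, mul_inv_cancel, Units.val_one]
    have h2 := congrFun (congrFun h1 i) j
    rw [Matrix.mul_apply] at h2
    refine h2.trans ?_
    rw [Matrix.one_apply, Matrix.one_apply]
    split_ifs <;> rfl
  inv_val := by
    refine Matrix.ext fun i j => Subtype.ext (funext fun g => ?_)
    rw [Matrix.mul_apply, AddSubmonoidClass.coe_finsetSum, Finset.sum_apply]
    have h1 : ((g.1⁻¹ : GL (Fin b) k) : Matrix (Fin b) (Fin b) k) * (g.1 : Matrix (Fin b) (Fin b) k) = 1 := by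
      rw [← Units.val_mul, inv_mul_cancel, Units.val_one]
    have h2 := congrFun (congrFun h1 i) j
    rw [Matrix.mul_apply] at h2
    refine h2.trans ?_
    rw [Matrix.one_apply, Matrix.one_apply]
    split_ifs <;> rfl

/-- The universal matrix. -/
def u₂ : GL (Fin a) (H k b a) where
  val := Matrix.of x₂
  inv := Matrix.of y₂
  val_inv := by
    refine Matrix.ext fun i j => Subtype.ext (funext fun g => ?_)
    rw [Matrix.mul_apply, AddSubmonoidClass.coe_finsetSum, Finset.sum_apply]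
    have h1 : (g.2 : Matrix (Fin a) (Fin a) k) * ((g.2⁻¹ : GL (Fin a) k) : Matrix (Fin a) (Fin a) k) = 1 := by
      rw [← Units.val_mul, mul_inv_cancel, Units.val_one]
    have h2 := congrFun (congrFun h1 i) j
    rw [Matrix.mul_apply] at h2
    refine h2.trans ?_
    rw [Matrix.one_apply, Matrix.one_apply]
    split_ifs <;> rfl
  inv_val := by
    refine Matrix.ext fun i j => Subtype.ext (funext fun g => ?_)
    rw [Matrix.mul_apply, AddSubmonoidClass.coe_finsetSum, Finset.sum_apply]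
    have h1 : ((g.2⁻¹ : GL (Fin a) k) : Matrix (Fin a) (Fin a) k) * (g.2 : Matrix (Fin a) (Fin a) k) = 1 := by
      rw [← Units.val_mul, inv_mul_cancel, Units.val_one]
    have h2 := congrFun (congrFun h1 i) j
    rw [Matrix.mul_apply] at h2
    refine h2.trans ?_
    rw [Matrix.one_apply, Matrix.one_apply]
    split_ifs <;> rfl

/-- Evaluation. -/
def ev (g : Gr k b a) : H k b a →ₐ[k] k := (Pi.evalAlgHom k (fun _ : Gr k b a => k) g).comp (H k b a).val

theorem map_u₁ (x : H k b a →ₐ[k] k) (i j : Fin b) :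
    ((Matrix.GeneralLinearGroup.map (x : H k b a →+* k) u₁ : GL (Fin b) k) : Matrix _ _ k) i j = x (x₁ i j) := rfl

/-- The points of `H` are the elements of the group. -/
theorem exists_ev (x : H k b a →ₐ[k] k) : ∃ g, ∀ f : H k b a, x f = f.1 g := by
  let g : Gr k b a := (Matrix.GeneralLinearGroup.map (x : H k b a →+* k) u₁,
    Matrix.GeneralLinearGroup.map (x : H k b a →+* k) u₂)
  refine ⟨g, ?_⟩
  rintro ⟨f, hf⟩
  refine Algebra.adjoin_induction (p := fun f hf => x ⟨f, hf⟩ = f g) ?_ ?_ ?_ ?_ hf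
  · rintro f (((⟨⟨i, j⟩, rfl⟩ | ⟨⟨i, j⟩, rfl⟩) | ⟨⟨i, j⟩, rfl⟩) | ⟨⟨i, j⟩, rfl⟩) <;> rfl
  · intro c
    exact x.commutes c
  · intro f f' hf hf' h h'
    rw [Pi.add_apply, ← h, ← h', ← map_add]
    rfl
  · intro f f' hf hf' h h'
    rw [Pi.mul_apply, ← h, ← h', ← map_mul]
    rfl

/-- The coordinates. -/
def crd (g : Gr k b a) : (Fin b × Fin b) ⊕ (Fin a × Fin a) → k :=
  Sum.elim (fun p => (g.1 : Matrix (Fin b) (Fin b) k) p.1 p.2) fun p => (g.2 : Matrix (Fin a) (Fin a) k) p.1 p.2

/-- The generic matrices. -/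
noncomputable def gm₁ : Matrix (Fin b) (Fin b) (MvPolynomial ((Fin b × Fin b) ⊕ (Fin a × Fin a)) k) :=
  Matrix.of fun i j => MvPolynomial.X (Sum.inl (i, j))

/-- The generic matrices. -/
noncomputable def gm₂ : Matrix (Fin a) (Fin a) (MvPolynomial ((Fin b × Fin b) ⊕ (Fin a × Fin a)) k) :=
  Matrix.of fun i j => MvPolynomial.X (Sum.inr (i, j))

theorem eval_gm₁ (c : (Fin b × Fin b) ⊕ (Fin a × Fin a) → k) :
    (gm₁ (k := k) (b := b) (a := a)).map (MvPolynomial.eval c) = Matrix.of fun i j => c (Sum.inl (i, j)) := by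
  ext i j
  simp [gm₁]

theorem eval_gm₂ (c : (Fin b × Fin b) ⊕ (Fin a × Fin a) → k) :
    (gm₂ (k := k) (b := b) (a := a)).map (MvPolynomial.eval c) = Matrix.of fun i j => c (Sum.inr (i, j)) := by
  ext i j
  simp [gm₂]

theorem eval_det₁ (c : (Fin b × Fin b) ⊕ (Fin a × Fin a) → k) :
    MvPolynomial.eval c (gm₁ (k := k) (b := b) (a := a)).det = (Matrix.of fun i j => c (Sum.inl (i, j))).det := by
  rw [RingHom.map_det, RingHom.mapMatrix_apply, eval_gm₁]

theorem eval_det₂ (c : (Fin b × Fin b) ⊕ (Fin a × Fin a) → k) :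
    MvPolynomial.eval c (gm₂ (k := k) (b := b) (a := a)).det = (Matrix.of fun i j => c (Sum.inr (i, j))).det := by
  rw [RingHom.map_det, RingHom.mapMatrix_apply, eval_gm₂]

/-- The product of the determinants. -/
noncomputable def dd : MvPolynomial ((Fin b × Fin b) ⊕ (Fin a × Fin a)) k := gm₁.det * gm₂.det

theorem eval_dd (g : Gr k b a) : MvPolynomial.eval (crd g) dd =
    (g.1 : Matrix (Fin b) (Fin b) k).det * (g.2 : Matrix (Fin a) (Fin a) k).det := by
  rw [dd, map_mul, eval_det₁, eval_det₂]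
  rfl

theorem dd_ne_zero : dd (k := k) (b := b) (a := a) ≠ 0 := by
  intro h
  have h1 := eval_dd (1 : Gr k b a)
  rw [h, map_zero] at h1
  simp at h1

theorem exists_poly (f : Gr k b a → k) (hf : f ∈ H k b a) :
    ∃ (N : ℕ) (P : MvPolynomial ((Fin b × Fin b) ⊕ (Fin a × Fin a)) k), ∀ g, f g * MvPolynomial.eval (crd g) dd ^ N =
      MvPolynomial.eval (crd g) P := by
  refine Algebra.adjoin_induction (p := fun f _ => ∃ (N : ℕ) (P : MvPolynomial _ k), ∀ g,
    f g * MvPolynomial.eval (crd g) dd ^ N = MvPolynomial.eval (crd g) P) ?_ ?_ ?_ ?_ hf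
  · rintro f (((⟨⟨i, j⟩, rfl⟩ | ⟨⟨i, j⟩, rfl⟩) | ⟨⟨i, j⟩, rfl⟩) | ⟨⟨i, j⟩, rfl⟩)
    · exact ⟨0, MvPolynomial.X (Sum.inl (i, j)), fun g => by simp [crd]⟩
    · refine ⟨1, gm₁.adjugate i j * gm₂.det, fun g => ?_⟩
      rw [map_mul, eval_det₂, pow_one, eval_dd]
      have h1 : MvPolynomial.eval (crd g) ((gm₁ (k := k) (b := b) (a := a)).adjugate i j) =
          (g.1 : Matrix (Fin b) (Fin b) k).adjugate i j := by
        have := congrFun (congrFun (RingHom.map_adjugate (MvPolynomial.eval (crd g)) (gm₁ (k := k) (b := b) (a := a))) i) j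
        rw [RingHom.mapMatrix_apply, RingHom.mapMatrix_apply, eval_gm₁] at this
        exact this
      have h2 : ((g.1⁻¹ : GL (Fin b) k) : Matrix (Fin b) (Fin b) k) i j * (g.1 : Matrix (Fin b) (Fin b) k).det =
          (g.1 : Matrix (Fin b) (Fin b) k).adjugate i j := by
        rw [Matrix.coe_units_inv, Matrix.inv_def, Matrix.smul_apply, smul_eq_mul, mul_right_comm,
          Ring.inverse_mul_cancel _ ((Matrix.isUnit_iff_isUnit_det _).1 g.1.isUnit), one_mul]
      rw [h1, ← h2]
      show _ * (_ * _) = _ * _ * (Matrix.of fun i j => (g.2 : Matrix (Fin a) (Fin a) k) i j).det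
      exact (mul_assoc _ _ _).symm
    · exact ⟨0, MvPolynomial.X (Sum.inr (i, j)), fun g => by simp [crd]⟩
    · refine ⟨1, gm₂.adjugate i j * gm₁.det, fun g => ?_⟩
      rw [map_mul, eval_det₁, pow_one, eval_dd]
      have h1 : MvPolynomial.eval (crd g) ((gm₂ (k := k) (b := b) (a := a)).adjugate i j) =
          (g.2 : Matrix (Fin a) (Fin a) k).adjugate i j := by
        have := congrFun (congrFun (RingHom.map_adjugate (MvPolynomial.eval (crd g)) (gm₂ (k := k) (b := b) (a := a))) i) j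
        rw [RingHom.mapMatrix_apply, RingHom.mapMatrix_apply, eval_gm₂] at this
        exact this
      have h2 : ((g.2⁻¹ : GL (Fin a) k) : Matrix (Fin a) (Fin a) k) i j * (g.2 : Matrix (Fin a) (Fin a) k).det =
          (g.2 : Matrix (Fin a) (Fin a) k).adjugate i j := by
        rw [Matrix.coe_units_inv, Matrix.inv_def, Matrix.smul_apply, smul_eq_mul, mul_right_comm,
          Ring.inverse_mul_cancel _ ((Matrix.isUnit_iff_isUnit_det _).1 g.2.isUnit), one_mul]
      rw [h1, ← h2]
      show _ * (_ * _) = _ * _ * (Matrix.of fun i j => (g.1 : Matrix (Fin b) (Fin b) k) i j).det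
      have h3 : (Matrix.of fun i j => (g.1 : Matrix (Fin b) (Fin b) k) i j) = (g.1 : Matrix (Fin b) (Fin b) k) := rfl
      rw [h3]
      ring
  · intro c
    exact ⟨0, MvPolynomial.C c, fun g => by simp⟩
  · rintro f f' - - ⟨N, P, h⟩ ⟨N', P', h'⟩
    refine ⟨N + N', P * dd ^ N' + P' * dd ^ N, fun g => ?_⟩
    rw [map_add, map_mul, map_mul, map_pow, map_pow, ← h, ← h', Pi.add_apply, pow_add]
    ring
  · rintro f f' - - ⟨N, P, h⟩ ⟨N', P', h'⟩
    refine ⟨N + N', P * P', fun g => ?_⟩
    rw [map_mul, ← h, ← h', Pi.mul_apply, pow_add]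
    ring

/-- A polynomial which vanishes on the group is zero. -/
theorem eq_zero_of_eval [Infinite k] (P : MvPolynomial ((Fin b × Fin b) ⊕ (Fin a × Fin a)) k)
    (h : ∀ g : Gr k b a, MvPolynomial.eval (crd g) P = 0) : P = 0 := by
  have h1 : P * dd = 0 := by
    refine MvPolynomial.funext fun c => ?_
    rw [map_zero, map_mul]
    by_cases h2 : MvPolynomial.eval c dd = 0
    · rw [h2, mul_zero]
    · rw [dd, map_mul, eval_det₁, eval_det₂] at h2
      have h3 := h (Matrix.GeneralLinearGroup.mkOfDetNeZero _ (left_ne_zero_of_mul h2),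
        Matrix.GeneralLinearGroup.mkOfDetNeZero _ (right_ne_zero_of_mul h2))
      have h4 : crd ((Matrix.GeneralLinearGroup.mkOfDetNeZero _ (left_ne_zero_of_mul h2),
        Matrix.GeneralLinearGroup.mkOfDetNeZero _ (right_ne_zero_of_mul h2)) : Gr k b a) = c := by
        funext p
        rcases p with ⟨i, j⟩ | ⟨i, j⟩ <;> rfl
      rw [h4] at h3
      rw [h3, zero_mul]
  exact (mul_eq_zero.1 h1).resolve_right dd_ne_zero

instance isDomain [Infinite k] : IsDomain (H k b a) := by
  have h0 : ∀ g : Gr k b a, MvPolynomial.eval (crd g) dd ≠ 0 := by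
    intro g
    rw [eval_dd]
    exact mul_ne_zero ((Matrix.isUnit_iff_isUnit_det _).1 g.1.isUnit).ne_zero
      ((Matrix.isUnit_iff_isUnit_det _).1 g.2.isUnit).ne_zero
  haveI : Nontrivial (H k b a) := inferInstance
  haveI : NoZeroDivisors (H k b a) := ⟨by
    rintro ⟨f, hf⟩ ⟨f', hf'⟩ h
    obtain ⟨N, P, hP⟩ := exists_poly f hf
    obtain ⟨N', P', hP'⟩ := exists_poly f' hf'
    have h1 : P * P' = 0 := eq_zero_of_eval _ fun g => by
      have h2 : f g * f' g = 0 := congrArg (fun z : H k b a => z.1 g) h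
      rw [map_mul, ← hP, ← hP', mul_mul_mul_comm, h2, zero_mul]
    rcases mul_eq_zero.1 h1 with h2 | h2
    · left
      refine Subtype.ext (funext fun g => ?_)
      have h3 := hP g
      rw [h2, map_zero] at h3
      exact (mul_eq_zero.1 h3).resolve_right (pow_ne_zero _ (h0 g))
    · right
      refine Subtype.ext (funext fun g => ?_)
      have h3 := hP' g
      rw [h2, map_zero] at h3
      exact (mul_eq_zero.1 h3).resolve_right (pow_ne_zero _ (h0 g))⟩
  exact NoZeroDivisors.to_isDomain _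

end Groth.Agent.BunMod.K356.RegFun
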