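import Groth.Agent.BunMod.K140.Defs3
import Groth.Agent.BunMod.K356.RegFun

/-!
# The action on an affine stable open of the atlas

`Z` is a scheme over `k` with an action of `GL_b × GL_a` (on `T`-points), `U` an affine open, stable under the action in
the sense that it is the preimage of an open under an invariant morphism `π : Z ⟶ M`.  The group of `k`-points acts on
`Γ(Z, U)` by the `k`-algebra homomorphisms `τ g`; the action is algebraic: `IsAlg τ (H k b a)`.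
-/

set_option autoImplicit false

universe u

open CategoryTheory CategoryTheory.Limits AlgebraicGeometry TensorProduct

namespace Groth.Agent.BunMod.K356.AtlasAct

open K140.BM Groth.Agent.BunMod.K356.Orbit Groth.Agent.BunMod.K356.RegFun

variable {k : Type u} [Field k]

/-- An action of `GL_b × GL_a` on `Z` (functor of points). -/
structure Act (Z : Over (B0 k)) (b a : ℕ) where
  /-- the action on `T`-points -/
  act : ∀ {T : Over (B0 k)}, GL (Fin b) Γ(T.left, ⊤) → GL (Fin a) Γ(T.left, ⊤) → (T ⟶ Z) → (T ⟶ Z)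
  act_nat : ∀ {T T' : Over (B0 k)} (g : T' ⟶ T) (u : GL (Fin b) Γ(T.left, ⊤)) (v : GL (Fin a) Γ(T.left, ⊤))
    (c : T ⟶ Z), g ≫ act u v c = act (Matrix.GeneralLinearGroup.map g.left.appTop.hom u)
      (Matrix.GeneralLinearGroup.map g.left.appTop.hom v) (g ≫ c)
  act_one : ∀ {T : Over (B0 k)} (c : T ⟶ Z), act 1 1 c = c
  act_mul : ∀ {T : Over (B0 k)} (u u' : GL (Fin b) Γ(T.left, ⊤)) (v v' : GL (Fin a) Γ(T.left, ⊤)) (c : T ⟶ Z),
    act (u * u') (v * v') c = act u v (act u' v' c)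

theorem matT_nat {T T' : Over (B0 k)} (f : T' ⟶ T) {n : ℕ} (u : GL (Fin n) k) :
    Matrix.GeneralLinearGroup.map f.left.appTop.hom (matT T u) = matT T' u := by
  unfold matT
  rw [← MonoidHom.comp_apply, ← Matrix.GeneralLinearGroup.map_comp]
  congr 2
  rw [← RingHom.comp_assoc, ← CommRingCat.hom_comp, ← Scheme.Hom.comp_appTop]
  congr 2
  rw [Over.w f]

variable {Z : Over (B0 k)} {b a : ℕ} (A : Act Z b a)

/-- The action of the `k`-points. -/
noncomputable def sg (g : Gr k b a) : Z ⟶ Z := A.act (matT Z g.1) (matT Z g.2) (𝟙 Z)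

theorem comp_sg {T : Over (B0 k)} (c : T ⟶ Z) (g : Gr k b a) :
    c ≫ sg A g = A.act (matT T g.1) (matT T g.2) c := by
  rw [sg, A.act_nat, matT_nat, matT_nat, Category.comp_id]

theorem sg_comp (g h : Gr k b a) : sg A g ≫ sg A h = sg A (h * g) := by
  rw [comp_sg]
  conv_lhs => rw [sg]
  rw [← A.act_mul, sg]
  congr 1
  · exact (map_mul _ _ _).symm
  · exact (map_mul _ _ _).symm

theorem sg_one : sg A (1 : Gr k b a) = 𝟙 Z := by
  rw [sg]
  have h1 : matT Z (1 : Gr k b a).1 = 1 := map_one _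
  have h2 : matT Z (1 : Gr k b a).2 = 1 := map_one _
  rw [h1, h2, A.act_one]

/-! ### Functions -/

theorem appLE_appTop {X Y W : Scheme.{u}} (f : X ⟶ Y) (g : Y ⟶ W) (U : W.Opens) (e : ⊤ ≤ g ⁻¹ᵁ U)
    (e' : ⊤ ≤ (f ≫ g) ⁻¹ᵁ U) : (f ≫ g).appLE U ⊤ e' = g.appLE U ⊤ e ≫ f.appTop := by
  have h : f.appTop = f.appLE ⊤ ⊤ le_top := by
    rw [Scheme.Hom.appTop, Scheme.Hom.app_eq_appLE]
    rfl
  rw [h, Scheme.Hom.appLE_comp_appLE]

attribute [local instance] algOn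

/-- Pull-back of functions. -/
noncomputable def apA {T Z : Over (B0 k)} (c : T ⟶ Z) (W : Z.left.Opens) (W' : T.left.Opens)
    (e : W' ≤ c.left ⁻¹ᵁ W) : Γ(Z.left, W) →ₐ[k] Γ(T.left, W') where
  __ := (c.left.appLE W W' e).hom
  commutes' x := by
    show (c.left.appLE W W' e).hom ((Z.hom.appLE ⊤ W le_top).hom ((Scheme.ΓSpecIso (CommRingCat.of k)).inv.hom x)) =
      (T.hom.appLE ⊤ W' le_top).hom ((Scheme.ΓSpecIso (CommRingCat.of k)).inv.hom x)
    rw [← CommRingCat.comp_apply, Scheme.Hom.appLE_comp_appLE]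
    congr 3
    exact Over.w c

theorem apA_apply {T Z : Over (B0 k)} (c : T ⟶ Z) (W : Z.left.Opens) (W' : T.left.Opens)
    (e : W' ≤ c.left ⁻¹ᵁ W) (x : Γ(Z.left, W)) : apA c W W' e x = c.left.appLE W W' e x := rfl

theorem apA_comp {T T' Z : Over (B0 k)} (c : T ⟶ Z) (d : T' ⟶ T) (W : Z.left.Opens) (W' : T.left.Opens)
    (W'' : T'.left.Opens) (e : W' ≤ c.left ⁻¹ᵁ W) (e' : W'' ≤ d.left ⁻¹ᵁ W') (e'' : W'' ≤ (d ≫ c).left ⁻¹ᵁ W)
    (x : Γ(Z.left, W)) : apA d W' W'' e' (apA c W W' e x) = apA (d ≫ c) W W'' e'' x := by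
  rw [apA_apply, apA_apply, apA_apply, ← CommRingCat.comp_apply, Scheme.Hom.appLE_comp_appLE]
  rfl

theorem apA_congr {T Z : Over (B0 k)} {c c' : T ⟶ Z} (h : c = c') (W : Z.left.Opens) (W' : T.left.Opens)
    (e : W' ≤ c.left ⁻¹ᵁ W) (e' : W' ≤ c'.left ⁻¹ᵁ W) (x : Γ(Z.left, W)) : apA c W W' e x = apA c' W W' e' x := by
  subst h
  rfl

theorem apA_id (W : Z.left.Opens) (e : W ≤ (𝟙 Z : Z ⟶ Z).left ⁻¹ᵁ W) (x : Γ(Z.left, W)) :
    apA (𝟙 Z) W W e x = x := by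
  rw [apA_apply]
  have : (𝟙 Z : Z ⟶ Z).left.appLE W W e = 𝟙 _ := by
    show 𝟙 _ ≫ Z.left.presheaf.map (homOfLE e).op = 𝟙 _
    exact (Category.id_comp _).trans (Z.left.presheaf.map_id _)
  rw [this]
  rfl

/-! ### Points with values in an algebra -/

/-- `Spec R` over `k`. -/
noncomputable abbrev SpecO (k : Type u) [Field k] (R : Type u) [CommRing R] [Algebra k R] : Over (B0 k) :=
  Over.mk (Spec.map (CommRingCat.ofHom (algebraMap k R)))

/-- Functoriality. -/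
noncomputable def SpecO.map {R R' : Type u} [CommRing R] [Algebra k R] [CommRing R'] [Algebra k R'] (ψ : R →ₐ[k] R') :
    SpecO k R' ⟶ SpecO k R :=
  Over.homMk (Spec.map (CommRingCat.ofHom ψ.toRingHom)) (by
    show Spec.map _ ≫ Spec.map _ = Spec.map _
    rw [← Spec.map_comp, ← CommRingCat.ofHom_comp]
    congr 2
    exact ψ.comp_algebraMap)

variable {U : Z.left.Opens}

/-- The function `Γ(Z, U) → R` given by a point. -/
noncomputable def fn {R : Type u} [CommRing R] [Algebra k R] (q : SpecO k R ⟶ Z) (e : ⊤ ≤ q.left ⁻¹ᵁ U) :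
    Γ(Z.left, U) →+* R :=
  (Scheme.ΓSpecIso (CommRingCat.of R)).hom.hom.comp (q.left.appLE U ⊤ e).hom

theorem fn_comp {R R' : Type u} [CommRing R] [Algebra k R] [CommRing R'] [Algebra k R'] (ψ : R →ₐ[k] R')
    (q : SpecO k R ⟶ Z) (e : ⊤ ≤ q.left ⁻¹ᵁ U) (e' : ⊤ ≤ (SpecO.map ψ ≫ q).left ⁻¹ᵁ U) (x : Γ(Z.left, U)) :
    fn (SpecO.map ψ ≫ q) e' x = ψ (fn q e x) := by
  have h1 : (SpecO.map ψ ≫ q).left.appLE U ⊤ e' = q.left.appLE U ⊤ e ≫ (SpecO.map ψ).left.appTop :=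
    appLE_appTop _ _ _ _ _
  have h2 : (SpecO.map ψ).left.appTop ≫ (Scheme.ΓSpecIso (CommRingCat.of R')).hom =
      (Scheme.ΓSpecIso (CommRingCat.of R)).hom ≫ CommRingCat.ofHom ψ.toRingHom :=
    Scheme.ΓSpecIso_naturality (CommRingCat.ofHom ψ.toRingHom)
  show ((SpecO.map ψ ≫ q).left.appLE U ⊤ e' ≫ (Scheme.ΓSpecIso (CommRingCat.of R')).hom).hom x = _
  rw [h1, Category.assoc, h2]
  rfl

theorem fn_congr {R : Type u} [CommRing R] [Algebra k R] {q q' : SpecO k R ⟶ Z} (h : q = q')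
    (e : ⊤ ≤ q.left ⁻¹ᵁ U) (e' : ⊤ ≤ q'.left ⁻¹ᵁ U) (x : Γ(Z.left, U)) : fn q e x = fn q' e' x := by
  subst h
  rfl

theorem fn_apA {R : Type u} [CommRing R] [Algebra k R] (q : SpecO k R ⟶ Z) (s : Z ⟶ Z) (e : ⊤ ≤ q.left ⁻¹ᵁ U)
    (e' : U ≤ s.left ⁻¹ᵁ U) (e'' : ⊤ ≤ (q ≫ s).left ⁻¹ᵁ U) (x : Γ(Z.left, U)) :
    fn (q ≫ s) e'' x = fn q e (apA s U U e' x) := by
  show (Scheme.ΓSpecIso (CommRingCat.of R)).hom.hom (apA (q ≫ s) U ⊤ e'' x) =
    (Scheme.ΓSpecIso (CommRingCat.of R)).hom.hom (apA q U ⊤ e (apA s U U e' x))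
  rw [apA_comp s q U U ⊤ e' e e'']

theorem fromSpec_hom (hU : IsAffineOpen U) :
    hU.fromSpec ≫ Z.hom = Spec.map (CommRingCat.ofHom (algebraMap k Γ(Z.left, U))) := by
  have h1 := IsAffineOpen.SpecMap_appLE_fromSpec Z.hom (isAffineOpen_top (B0 k)) hU le_top
  rw [← h1, IsAffineOpen.fromSpec_top, Scheme.isoSpec_Spec_inv, ← Spec.map_comp]
  rfl

/-- The point given by a homomorphism. -/
noncomputable def pt (hU : IsAffineOpen U) {R : Type u} [CommRing R] [Algebra k R] (φ : Γ(Z.left, U) →ₐ[k] R) :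
    SpecO k R ⟶ Z :=
  Over.homMk (Spec.map (CommRingCat.ofHom φ.toRingHom) ≫ hU.fromSpec) (by
    rw [Category.assoc, fromSpec_hom hU]
    show Spec.map _ ≫ Spec.map _ = Spec.map _
    rw [← Spec.map_comp, ← CommRingCat.ofHom_comp]
    congr 2
    exact φ.comp_algebraMap)

theorem pt_le (hU : IsAffineOpen U) {R : Type u} [CommRing R] [Algebra k R] (φ : Γ(Z.left, U) →ₐ[k] R) :
    ⊤ ≤ (pt hU φ).left ⁻¹ᵁ U := by
  show ⊤ ≤ Spec.map (CommRingCat.ofHom φ.toRingHom) ⁻¹ᵁ hU.fromSpec ⁻¹ᵁ U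
  rw [hU.fromSpec_preimage_self]
  exact le_rfl

theorem fn_pt (hU : IsAffineOpen U) {R : Type u} [CommRing R] [Algebra k R] (φ : Γ(Z.left, U) →ₐ[k] R)
    (x : Γ(Z.left, U)) : fn (pt hU φ) (pt_le hU φ) x = φ x := by
  have h0 : (⊤ : (Spec Γ(Z.left, U)).Opens) ≤ hU.fromSpec ⁻¹ᵁ U := hU.fromSpec_preimage_self.ge
  have h1 : hU.fromSpec.appLE U ⊤ h0 = (Scheme.ΓSpecIso Γ(Z.left, U)).inv := by
    rw [Scheme.Hom.appLE, hU.fromSpec_app_self, Category.assoc, ← Functor.map_comp]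
    exact (congrArg _ ((Spec Γ(Z.left, U)).presheaf.map_id _)).trans (Category.comp_id _)
  have h2 : (pt hU φ).left.appLE U ⊤ (pt_le hU φ) = (Scheme.ΓSpecIso Γ(Z.left, U)).inv ≫
      (Spec.map (CommRingCat.ofHom φ.toRingHom)).appTop := by
    rw [← h1]
    exact appLE_appTop _ _ _ _ _
  show ((pt hU φ).left.appLE U ⊤ (pt_le hU φ) ≫ (Scheme.ΓSpecIso (CommRingCat.of R)).hom).hom x = _
  rw [h2, Category.assoc, Scheme.ΓSpecIso_naturality]
  exact congrArg (fun f => (f ≫ CommRingCat.ofHom φ.toRingHom).hom x) (Scheme.ΓSpecIso Γ(Z.left, U)).inv_hom_id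

theorem pt_comp (hU : IsAffineOpen U) {R R' : Type u} [CommRing R] [Algebra k R] [CommRing R'] [Algebra k R']
    (φ : Γ(Z.left, U) →ₐ[k] R) (ψ : R →ₐ[k] R') : SpecO.map ψ ≫ pt hU φ = pt hU (ψ.comp φ) := by
  refine Over.OverMorphism.ext ?_
  show Spec.map _ ≫ Spec.map _ ≫ hU.fromSpec = Spec.map _ ≫ hU.fromSpec
  rw [← Category.assoc, ← Spec.map_comp, ← CommRingCat.ofHom_comp]
  rfl

/-! ### The action on a stable affine open -/

/-- `U` is stable under the action. -/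
def Stable (A : Act Z b a) (U : Z.left.Opens) : Prop :=
  ∀ {T : Over (B0 k)} (u : GL (Fin b) Γ(T.left, ⊤)) (v : GL (Fin a) Γ(T.left, ⊤)) (c : T ⟶ Z),
    (A.act u v c).left ⁻¹ᵁ U = c.left ⁻¹ᵁ U

variable {A}

theorem Stable.le (hst : Stable A U) (g : Gr k b a) : U ≤ (sg A g).left ⁻¹ᵁ U := (hst _ _ (𝟙 Z)).ge

/-- The action on functions. -/
noncomputable def τ (hst : Stable A U) (g : Gr k b a) : Γ(Z.left, U) →ₐ[k] Γ(Z.left, U) :=
  apA (sg A g) U U (hst.le g)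

theorem τ_apply (hst : Stable A U) (g : Gr k b a) (x : Γ(Z.left, U)) :
    τ hst g x = (sg A g).left.appLE U U (hst.le g) x := rfl

theorem τ_τ (hst : Stable A U) (g h : Gr k b a) (x : Γ(Z.left, U)) : τ hst g (τ hst h x) = τ hst (h * g) x := by
  rw [τ, τ, apA_comp (sg A h) (sg A g) U U U (hst.le h) (hst.le g)
    (by rw [sg_comp]; exact hst.le _)]
  exact apA_congr (sg_comp A g h) _ _ _ _ _

theorem τ_one (hst : Stable A U) (x : Γ(Z.left, U)) : τ hst 1 x = x := by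
  rw [τ, apA_congr (sg_one A) U U _ le_rfl]
  exact apA_id U le_rfl x

theorem isAct (hst : Stable A U) : IsAct (τ hst) where
  one := ⟨1, τ_one hst⟩
  mul g h := ⟨h * g, fun x => (τ_τ hst g h x).symm⟩
  inv g := ⟨g⁻¹, fun x => by rw [τ_τ, mul_inv_cancel, τ_one], fun x => by rw [τ_τ, inv_mul_cancel, τ_one]⟩

/-- The specialisation of the universal point. -/
noncomputable def spz (k : Type u) [Field k] {b a : ℕ} (C : Type u) [CommRing C] [Algebra k C] (g : Gr k b a) :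
    C ⊗[k] H k b a →ₐ[k] C :=
  Algebra.TensorProduct.lift (AlgHom.id k C) ((Algebra.ofId k C).comp (ev g)) fun _ _ => Commute.all _ _

theorem spz_tmul (C : Type u) [CommRing C] [Algebra k C] (g : Gr k b a) (c : C) (h : H k b a) :
    spz k C g (c ⊗ₜ h) = h.1 g • c := by
  rw [spz, Algebra.TensorProduct.lift_tmul, mul_comm, Algebra.smul_def]
  rfl

theorem map_univ {n : ℕ} (C : Type u) [CommRing C] [Algebra k C] (g : Gr k b a) (w : GL (Fin n) (H k b a))
    (w' : GL (Fin n) k) (hw : ∀ i j, ((w : Matrix (Fin n) (Fin n) (H k b a)) i j).1 g = (w' : Matrix _ _ k) i j) :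
    Matrix.GeneralLinearGroup.map (SpecO.map (spz k C g)).left.appTop.hom
      (Matrix.GeneralLinearGroup.map ((Scheme.ΓSpecIso (CommRingCat.of (C ⊗[k] H k b a))).inv.hom.comp
        (Algebra.TensorProduct.includeRight : H k b a →ₐ[k] C ⊗[k] H k b a).toRingHom) w) =
      matT (SpecO k C) w' := by
  refine Units.ext (Matrix.ext fun i j => ?_)
  have h1 : CommRingCat.ofHom (spz k C g).toRingHom ≫ (Scheme.ΓSpecIso (CommRingCat.of C)).inv =
      (Scheme.ΓSpecIso (CommRingCat.of (C ⊗[k] H k b a))).inv ≫ (SpecO.map (spz k C g)).left.appTop :=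
    Scheme.ΓSpecIso_inv_naturality _
  have h2 : CommRingCat.ofHom (algebraMap k C) ≫ (Scheme.ΓSpecIso (CommRingCat.of C)).inv =
      (Scheme.ΓSpecIso (CommRingCat.of k)).inv ≫ (SpecO k C).hom.appTop :=
    Scheme.ΓSpecIso_inv_naturality _
  have h3 := congrArg (fun f => f.hom ((1 : C) ⊗ₜ[k] ((w : Matrix (Fin n) (Fin n) (H k b a)) i j))) h1
  have h4 := congrArg (fun f => f.hom ((w' : Matrix _ _ k) i j)) h2
  refine h3.symm.trans (Eq.trans ?_ h4)
  show (Scheme.ΓSpecIso (CommRingCat.of C)).inv.hom (spz k C g ((1 : C) ⊗ₜ[k] _)) = _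
  rw [spz_tmul, hw, ← Algebra.algebraMap_eq_smul_one]
  rfl

theorem exists_univ (hU : IsAffineOpen U) (hst : Stable A U) (x : Γ(Z.left, U)) :
    ∃ t : Γ(Z.left, U) ⊗[k] H k b a, ∀ g, spz k Γ(Z.left, U) g t = τ hst g x := by
  let R := Γ(Z.left, U) ⊗[k] H k b a
  let iL : Γ(Z.left, U) →ₐ[k] R := Algebra.TensorProduct.includeLeft
  let w₁ : GL (Fin b) Γ((SpecO k R).left, ⊤) :=
    Matrix.GeneralLinearGroup.map ((Scheme.ΓSpecIso (CommRingCat.of (Γ(Z.left, U) ⊗[k] H k b a))).inv.hom.comp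
        (Algebra.TensorProduct.includeRight : H k b a →ₐ[k] Γ(Z.left, U) ⊗[k] H k b a).toRingHom) u₁
  let w₂ : GL (Fin a) Γ((SpecO k R).left, ⊤) :=
    Matrix.GeneralLinearGroup.map ((Scheme.ΓSpecIso (CommRingCat.of (Γ(Z.left, U) ⊗[k] H k b a))).inv.hom.comp
        (Algebra.TensorProduct.includeRight : H k b a →ₐ[k] Γ(Z.left, U) ⊗[k] H k b a).toRingHom) u₂
  let q : SpecO k R ⟶ Z := A.act w₁ w₂ (pt hU iL)
  have e : ⊤ ≤ q.left ⁻¹ᵁ U := (pt_le hU iL).trans (hst w₁ w₂ (pt hU iL)).ge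
  refine ⟨fn q e x, fun g => ?_⟩
  let p0 : SpecO k Γ(Z.left, U) ⟶ Z := pt hU (AlgHom.id k Γ(Z.left, U))
  have h0 : (spz k Γ(Z.left, U) g).comp iL = AlgHom.id k Γ(Z.left, U) := by
    refine AlgHom.ext fun c => ?_
    show spz k Γ(Z.left, U) g (c ⊗ₜ 1) = c
    rw [spz_tmul]
    exact one_smul k c
  have h1 : SpecO.map (spz k Γ(Z.left, U) g) ≫ q = p0 ≫ sg A g := by
    rw [A.act_nat, comp_sg, pt_comp, h0]
    congr 1
    · exact map_univ Γ(Z.left, U) g u₁ g.1 fun i j => rfl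
    · exact map_univ Γ(Z.left, U) g u₂ g.2 fun i j => rfl
  have e1 : ⊤ ≤ (p0 ≫ sg A g).left ⁻¹ᵁ U := by
    rw [comp_sg]
    exact (pt_le hU _).trans (hst _ _ p0).ge
  have e2 : ⊤ ≤ (SpecO.map (spz k Γ(Z.left, U) g) ≫ q).left ⁻¹ᵁ U := by rw [h1]; exact e1
  rw [← fn_comp (spz k Γ(Z.left, U) g) q e e2 x, fn_congr h1 e2 e1, fn_apA p0 (sg A g) (pt_le hU _) (hst.le g) e1]
  exact fn_pt hU (AlgHom.id k Γ(Z.left, U)) _

/-- The action is algebraic. -/
theorem isAlg (hU : IsAffineOpen U) (hst : Stable A U) : IsAlg (τ hst) (H k b a) := by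
  intro l x
  obtain ⟨t, ht⟩ := exists_univ hU hst x
  have h1 : ∀ t : Γ(Z.left, U) ⊗[k] H k b a, (fun g => l (spz k Γ(Z.left, U) g t)) ∈ H k b a := by
    intro t
    induction t using TensorProduct.induction_on with
    | zero =>
      have : (fun g : Gr k b a => l (spz k Γ(Z.left, U) g 0)) = 0 := by
        funext g
        rw [map_zero, map_zero]
        rfl
      rw [this]
      exact (H k b a).zero_mem
    | tmul c h =>
      have : (fun g => l (spz k Γ(Z.left, U) g (c ⊗ₜ h))) = l c • h.1 := by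
        funext g
        rw [spz_tmul, map_smul, smul_eq_mul, Pi.smul_apply, smul_eq_mul, mul_comm]
      rw [this]
      exact (H k b a).smul_mem h.2 _
    | add t t' h h' =>
      have : (fun g => l (spz k Γ(Z.left, U) g (t + t'))) =
          (fun g => l (spz k Γ(Z.left, U) g t)) + fun g => l (spz k Γ(Z.left, U) g t') := by
        funext g
        rw [map_add, map_add, Pi.add_apply]
      rw [this]
      exact (H k b a).add_mem h h'
  have h2 := h1 t
  simp only [ht] at h2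
  exact h2

end Groth.Agent.BunMod.K356.AtlasAct
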