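import Groth.Agent.BunMod.K356.ThetaFin
import Groth.Agent.BunMod.K28.RowsOf
import Groth.Agent.BunMod.K28.R1Main

/-!
# The common inputs of the structure theorem

* `common`: `K28.RowsOf.Common k X r N` for `r ≥ 2` and `N` invertible of degree `g - 1`, `g ≥ 2`.
-/

set_option autoImplicit false

universe u

open CategoryTheory CategoryTheory.Limits AlgebraicGeometry TensorProduct

namespace Groth.Agent.BunMod.K356.Common

open K140.BM K822.XTD

variable {k : Type u} [Field k] {X : Scheme.{u}} [X.Over (Spec (CommRingCat.of k))] [IsAlgClosed k] [CharZero k]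
  [IsProper (X ↘ Spec (CommRingCat.of k))] [Smooth (X ↘ Spec (CommRingCat.of k))]
  [GeometricallyConnected (X ↘ Spec (CommRingCat.of k))] (hdim : topologicalKrullDim X = 1)
  (hg : 2 ≤ Curv2.genus k X) {N : X.Modules} (hN : PicF.IsInvertible N)
  (hNd : Curv2.deg k X N 1 = (Curv2.genus k X : ℤ) - 1)

include hdim hg hN hNd

/-- The inputs of the structure theorem. -/
theorem common {r : ℕ} (hr : 2 ≤ r) : K28.RowsOf.Common k X r N where
  atlas := by
    obtain ⟨A, -⟩ := exists_atlasC_lift (k := k) hdim (by omega : 1 ≤ r)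
    exact ⟨A⟩
  atlas_det := fun L hL hLd => by
    obtain ⟨A, -⟩ := exists_atlasC_det_lift (k := k) hdim (by omega : 1 ≤ r) hL hLd
    exact ⟨A⟩
  theta := fun M φ hM => (ThetaFin.uss hdim hg hN hNd (by omega) hM).fam
  theta_det := fun L hL hLd M φ hM => (ThetaFin.ussdet hdim hg hN hNd hr hL hLd hM).fam

end Groth.Agent.BunMod.K356.Common
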