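import Groth.Agent.BunMod.K356.Kempf
import Groth.Agent.Divis.CartierBasic
import Mathlib.LinearAlgebra.TensorProduct.Basic

/-!
# Descent of an invertible ideal to the ring of invariants

`ring_descent`: `ι : B → C` is the inclusion of the invariants, `ρ` a Reynolds operator; an invertible stable ideal `I`
of `C` on which the stabilisers of the points act trivially is, locally on `Spec B`, generated by an element of `B`.
-/

set_option autoImplicit false

universe u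

open TensorProduct Polynomial AlgebraicGeometry CategoryTheory

namespace Groth.Agent.BunMod.K356.DescRing

open Groth.Agent.BunMod.K356.Orbit Groth.Agent.Divis

section Cartier

variable {X : Scheme.{u}}

/-- Local generators of an effective Cartier ideal at the primes of an affine open. -/
theorem exists_gen (U : X.affineOpens) [IsNoetherianRing Γ(X, U.1)] (I : X.IdealSheafData)
    (hI : BlowUp.IsEffCartierIdeal I) (N : Ideal Γ(X, U.1)) [hN : N.IsPrime] :
    ∃ t : Γ(X, U.1), t ∉ N ∧ ∃ f ∈ I.ideal U, (∀ a ∈ I.ideal U, ∃ b, t * a = b * f) ∧ ∀ a, a * f = 0 → t * a = 0 := by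
  let y : PrimeSpectrum Γ(X, U.1) := ⟨N, hN⟩
  have hy : U.2.fromSpec y ∈ U.1 := by
    have := Set.mem_range_self (f := U.2.fromSpec) y
    rwa [U.2.range_fromSpec] at this
  let := X.presheaf.algebra_section_stalk (⟨U.2.fromSpec y, hy⟩ : U.1)
  have h1 : IsLocalization.AtPrime (X.presheaf.stalk (U.2.fromSpec y)) N := U.2.isLocalization_stalk' y hy
  obtain ⟨g, hg, h⟩ := CartierBasic.exists_stalkIdeal_eq_span hI (U.2.fromSpec y)
  refine CartierAlg.exists_generator_nzd N (I.ideal U) (X.presheaf.stalk (U.2.fromSpec y)) g hg ?_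
  rw [← h, CartierBasic.stalkIdeal_eq I U hy]
  rfl

end Cartier

theorem ann_eq_zero {C : Type u} [CommRing C] {I : Ideal C}
    (hloc : ∀ (N : Ideal C) [N.IsPrime], ∃ t : C, t ∉ N ∧ ∃ f ∈ I, (∀ a ∈ I, ∃ b, t * a = b * f) ∧
      ∀ a, a * f = 0 → t * a = 0) (x : C) (hx : ∀ a ∈ I, x * a = 0) : x = 0 := by
  by_contra h0
  let A : Ideal C := LinearMap.ker (LinearMap.mulRight C x)
  have hA : A ≠ ⊤ := by
    intro h
    have h1 : (1 : C) ∈ A := by rw [h]; trivial
    exact h0 ((one_mul x).symm.trans h1)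
  obtain ⟨N, hN, hle⟩ := Ideal.exists_le_maximal A hA
  haveI := hN.isPrime
  obtain ⟨t, ht, f, hf, -, h2⟩ := hloc N
  exact ht (hle (h2 x (hx f hf)))

section

variable {k : Type u} [Field k] {C : Type u} [CommRing C] [Algebra k C]

/-- The `n`-th coefficient. -/
noncomputable def cf (k : Type u) [Field k] (C : Type u) [CommRing C] [Algebra k C] (n : ℕ) :
    k[X] ⊗[k] C →ₗ[k] C :=
  (TensorProduct.lid k C).toLinearMap ∘ₗ (Polynomial.lcoeff k n).rTensor C

theorem cf_tmul (n : ℕ) (p : k[X]) (c : C) : cf k C n (p ⊗ₜ c) = p.coeff n • c := rfl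

theorem cf_lTensor (n : ℕ) (f : C →ₗ[k] C) (t : k[X] ⊗[k] C) : cf k C n (f.lTensor k[X] t) = f (cf k C n t) := by
  induction t using TensorProduct.induction_on with
  | zero => rw [map_zero, map_zero, map_zero]
  | tmul p c => rw [LinearMap.lTensor_tmul, cf_tmul, cf_tmul, map_smul]
  | add t t' h h' => rw [map_add, map_add, map_add, map_add, h, h']

/-- A polynomial as a tensor. -/
noncomputable def ofP (F : C[X]) : k[X] ⊗[k] C := ∑ n ∈ F.support, (monomial n (1 : k)) ⊗ₜ[k] F.coeff n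

theorem cf_ofP (F : C[X]) (n : ℕ) : cf k C n (ofP F) = F.coeff n := by
  rw [ofP, map_sum]
  simp only [cf_tmul, coeff_monomial, ite_smul, one_smul, zero_smul, Finset.sum_ite_eq']
  split_ifs with h
  · rfl
  · exact (notMem_support_iff.1 h).symm

/-- From tensors to polynomials. -/
theorem poly_of_tensor {G : Type u} {τ : G → C →ₐ[k] C} (ρ : C →ₗ[k] C)
    (hρ : ∀ J : Submodule k (k[X] ⊗[k] C), (∀ g, J ≤ J.comap ((τ g).toLinearMap.lTensor k[X])) →
      J ≤ J.comap (ρ.lTensor k[X])) (J : Submodule k C[X])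
    (hJ : ∀ g, ∀ F ∈ J, F.map (τ g : C →+* C) ∈ J) (F : C[X]) (hF : F ∈ J) :
    ∃ F' ∈ J, ∀ n, F'.coeff n = ρ (F.coeff n) := by
  let J' : Submodule k (k[X] ⊗[k] C) :=
    { carrier := {t | ∃ F ∈ J, ∀ n, F.coeff n = cf k C n t}
      zero_mem' := ⟨0, J.zero_mem, fun n => by rw [coeff_zero, map_zero]⟩
      add_mem' := by
        rintro t t' ⟨F, hF, h⟩ ⟨F', hF', h'⟩
        exact ⟨F + F', J.add_mem hF hF', fun n => by rw [coeff_add, h, h', map_add]⟩
      smul_mem' := by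
        rintro c t ⟨F, hF, h⟩
        exact ⟨c • F, J.smul_mem c hF, fun n => by rw [coeff_smul, h, map_smul]⟩ }
  have h1 : ∀ g, J' ≤ J'.comap ((τ g).toLinearMap.lTensor k[X]) := by
    rintro g t ⟨F, hF, h⟩
    refine ⟨F.map (τ g : C →+* C), hJ g F hF, fun n => ?_⟩
    rw [coeff_map, h, cf_lTensor]
    rfl
  obtain ⟨F', hF', h⟩ := hρ J' h1 (show ofP F ∈ J' from ⟨F, hF, fun n => (cf_ofP F n).symm⟩)
  exact ⟨F', hF', fun n => by rw [h, cf_lTensor, cf_ofP]⟩

/-- **Descent of an invertible ideal to the ring of invariants.** -/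
theorem ring_descent [IsAlgClosed k] [CharZero k] [Algebra.FiniteType k C] {B : Type u} [CommRing B]
    {G : Type u} {τ : G → C →ₐ[k] C} {H : Subalgebra k (G → k)} [IsDomain H]
    [Algebra.FiniteType k H] (hτ : IsAct τ) (hA : IsAlg τ H) (hpt : ∀ x : H →ₐ[k] k, ∃ g, ∀ a : H, x a = a.1 g)
    (ι : B →+* C) (hι : Function.Injective ι) (hinv : ∀ f, (∀ g, τ g f = f) → ∃ h, ι h = f)
    (hinv' : ∀ h g, τ g (ι h) = ι h) (ρ : C →ₗ[k] C) (hρ : ∀ f, ∃ h, ι h = ρ f) (hρι : ∀ h, ρ (ι h) = ι h)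
    (hρm : ∀ h f, ρ (ι h * f) = ι h * ρ f)
    (hρJ : ∀ J : Submodule k (k[X] ⊗[k] C), (∀ g, J ≤ J.comap ((τ g).toLinearMap.lTensor k[X])) →
      J ≤ J.comap (ρ.lTensor k[X]))
    {I : Ideal C} (hI : ∀ g, ∀ x ∈ I, τ g x ∈ I)
    (hloc : ∀ (N : Ideal C) [N.IsPrime], ∃ t : C, t ∉ N ∧ ∃ f ∈ I, (∀ a ∈ I, ∃ b, t * a = b * f) ∧
      ∀ a, a * f = 0 → t * a = 0)
    (hstab : ∀ (z : C →ₐ[k] k) (g : G), (∀ x, z (τ g x) = z x) → ∀ s ∈ I,
      ∃ c, z c ≠ 0 ∧ c * (τ g s - s) ∈ RingHom.ker z * I)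
    (p : Ideal B) [p.IsPrime] :
    ∃ h₀, h₀ ∉ p ∧ ∃ a₀, ι a₀ ∈ I ∧ ∀ x ∈ I, ∃ b, ι h₀ * x = ι a₀ * b := by
  by_contra hcon
  push Not at hcon
  obtain ⟨m, hm, hpm⟩ := Ideal.exists_le_maximal p (Ideal.IsPrime.ne_top ‹_›)
  -- the ideal generated by `m` is proper
  have h1 : m.map ι ≠ ⊤ := by
    intro h
    have h2 : ∀ x ∈ m.map ι, ∀ c, ∃ y ∈ m, ρ (c * x) = ι y := by
      intro x hx
      refine Submodule.span_induction (p := fun x _ => ∀ c, ∃ y ∈ m, ρ (c * x) = ι y) ?_ ?_ ?_ ?_ hx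
      · rintro _ ⟨y, hy, rfl⟩ c
        obtain ⟨d, hd⟩ := hρ c
        refine ⟨y * d, m.mul_mem_right _ hy, ?_⟩
        rw [mul_comm c, hρm, ← hd, map_mul]
      · intro c
        exact ⟨0, m.zero_mem, by rw [mul_zero, map_zero, map_zero]⟩
      · intro x x' _ _ h h' c
        obtain ⟨y, hy, h⟩ := h c
        obtain ⟨y', hy', h'⟩ := h' c
        exact ⟨y + y', m.add_mem hy hy', by rw [mul_add, map_add, map_add, h, h']⟩
      · intro d x _ h c
        rw [smul_eq_mul, ← mul_assoc]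
        exact h (c * d)
    obtain ⟨y, hy, h3⟩ := h2 1 (by rw [h]; trivial) 1
    have h4 : ρ 1 = ι 1 := by rw [← map_one ι, hρι]
    rw [mul_one, h4] at h3
    exact hm.ne_top (Ideal.eq_top_of_isUnit_mem _ hy (by rw [← hι h3]; exact isUnit_one))
  have h5 : ∀ g, ∀ x ∈ m.map ι, τ g x ∈ m.map ι := by
    intro g
    have : m.map ι ≤ (m.map ι).comap (τ g : C →+* C) := by
      rw [Ideal.map_le_iff_le_comap]
      intro y hy
      show τ g (ι y) ∈ m.map ι
      rw [hinv']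
      exact Ideal.mem_map_of_mem _ hy
    exact this
  obtain ⟨z, hz, hcl⟩ := exists_closedOrbit hτ hA hpt (m.map ι) h5 h1
  haveI : (RingHom.ker z).IsPrime := RingHom.ker_isPrime z
  obtain ⟨t, ht, s, hs, hgen, hreg⟩ := hloc (RingHom.ker z)
  obtain ⟨a, ha, haτ, h, hh, hzh, hgen'⟩ := Kempf.main hτ hA hpt ρ
    (fun x g => by
      obtain ⟨y, hy⟩ := hρ x
      rw [← hy, hinv'])
    (by rw [← map_one ι, hρι]) (poly_of_tensor ρ hρJ) hI (ann_eq_zero hloc) (z := z) (s := s) (c := t) hs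
    (fun h => ht h) (fun x hx => by
      obtain ⟨b, hb⟩ := hgen x hx
      exact ⟨b, hb.trans (mul_comm _ _)⟩)
    (fun x hx => hreg x ((mul_comm _ _).trans hx))
    (fun z' hz' => hcl z' fun x hx => hz' x hx)
    (fun g hg => by
      obtain ⟨c, hc, h6⟩ := hstab z g hg s hs
      have h7 : τ g s - s = (algebraMap k C (z c)⁻¹) * (c * (τ g s - s) - (c - algebraMap k C (z c)) * (τ g s - s)) := by
        have h8 : algebraMap k C (z c)⁻¹ * algebraMap k C (z c) = 1 := by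
          rw [← map_mul, inv_mul_cancel₀ hc, map_one]
        linear_combination (-(τ g s - s)) * h8
      rw [h7]
      refine Ideal.mul_mem_left _ _ (Ideal.sub_mem _ h6 (Ideal.mul_mem_mul ?_ (I.sub_mem (hI g s hs) hs)))
      rw [RingHom.mem_ker, map_sub, AlgHom.commutes]
      exact sub_self _)
  obtain ⟨a₀, rfl⟩ := hinv a haτ
  obtain ⟨h₀, rfl⟩ := hinv h hh
  have h9 : h₀ ∉ p := fun hp => hzh (hz _ (Ideal.mem_map_of_mem ι (hpm hp)))
  obtain ⟨x, hx, h10⟩ := hcon h₀ h9 a₀ ha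
  obtain ⟨b, hb⟩ := hgen' x hx
  exact h10 b hb

end

end Groth.Agent.BunMod.K356.DescRing
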