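import Groth.Agent.BunMod.K356.AtlasAct
import Groth.Agent.BunMod.K356.DescRing
import Groth.Agent.BunMod.K562.DescIdeal

/-!
# Kempf descent for atlases

`A : AtlasC k X Q` is an atlas with quotient `π : Z ⟶ M`, `θ` an effective Cartier ideal on `Z`, stable under the action
of the group and such that the stabilisers of the `k`-points `z` of `Z` act trivially on `θ / m_z θ`.  Then `θ` is
generated by functions of `M` locally on `M` (`exists_genAt`); the ideal `θ.map π` of `M` is effective Cartier and its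
pull-back is `θ`.
-/

set_option autoImplicit false

universe u

open CategoryTheory CategoryTheory.Limits AlgebraicGeometry TensorProduct Polynomial

namespace Groth.Agent.BunMod.K356.Descend

open K140.BM Groth.Agent.BunMod.K356.Orbit Groth.Agent.BunMod.K356.RegFun Groth.Agent.BunMod.K356.AtlasAct
  Groth.Agent.BunMod.K356.DescRing

attribute [local instance] algOn

variable {k : Type u} [Field k] {X : Scheme.{u}} [X.Over (Spec (CommRingCat.of k))]
  {Q : ∀ T : Over (B0 k), (ModFun.modProb (st k X)).Fam T → Prop} (A : AtlasC k X Q)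

/-- The action. -/
noncomputable def toAct : Act A.Z A.b A.a := ⟨A.act, A.act_nat, A.act_one, A.act_mul⟩

theorem stable (V : A.M.left.Opens) : Stable (toAct A) (A.π.left ⁻¹ᵁ V) := by
  intro T u v c
  have h : (A.act u v c).left ≫ A.π.left = c.left ≫ A.π.left := congrArg (fun f => f.left) (A.act_π u v c)
  show ((A.act u v c).left ≫ A.π.left) ⁻¹ᵁ V = (c.left ≫ A.π.left) ⁻¹ᵁ V
  rw [h]

/-- The affine open `π⁻¹V`. -/
noncomputable def pre (V : A.M.left.affineOpens) : A.Z.left.affineOpens :=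
  ⟨A.π.left ⁻¹ᵁ V.1, haveI := A.aff; V.2.preimage A.π.left⟩

/-- The ideal of `θ` on `π⁻¹V`. -/
noncomputable def idl (θ : A.Z.left.IdealSheafData) (V : A.M.left.affineOpens) : Ideal Γ(A.Z.left, A.π.left ⁻¹ᵁ V.1) :=
  θ.ideal (pre A V)

/-- The action on the functions on `π⁻¹V`. -/
noncomputable abbrev tau (V : A.M.left.Opens) (g : Gr k A.b A.a) :
    Γ(A.Z.left, A.π.left ⁻¹ᵁ V) →ₐ[k] Γ(A.Z.left, A.π.left ⁻¹ᵁ V) := τ (stable A V) g

theorem finiteType (V : A.M.left.affineOpens) : Algebra.FiniteType k Γ(A.Z.left, A.π.left ⁻¹ᵁ V.1) := by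
  have := A.ft
  have h1 : (A.Z.hom.appLE ⊤ (A.π.left ⁻¹ᵁ V.1) le_top).hom.FiniteType :=
    HasRingHomProperty.appLE @LocallyOfFiniteType A.Z.hom inferInstance ⟨⊤, isAffineOpen_top _⟩ (pre A V) le_top
  have h2 : (Scheme.ΓSpecIso (CommRingCat.of k)).inv.hom.FiniteType :=
    RingHom.FiniteType.of_surjective _ (ConcreteCategory.bijective_of_isIso
      (Scheme.ΓSpecIso (CommRingCat.of k)).inv).2
  exact h1.comp h2

theorem tau_app (V : A.M.left.Opens) (h : Γ(A.M.left, V)) (g : Gr k A.b A.a) :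
    tau A V g (A.π.left.app V h) = A.π.left.app V h := by
  have h1 : (sg (toAct A) g).left ≫ A.π.left = A.π.left := by
    refine (congrArg (fun f => f.left) (A.act_π (matT A.Z g.1) (matT A.Z g.2) (𝟙 A.Z))).trans ?_
    exact Category.id_comp _
  have h2 : A.π.left.app V ≫ (sg (toAct A) g).left.appLE (A.π.left ⁻¹ᵁ V) (A.π.left ⁻¹ᵁ V) (Stable.le (stable A V) g) =
      A.π.left.app V := by
    rw [Scheme.Hom.app_eq_appLE, Scheme.Hom.appLE_comp_appLE]
    congr 1
  exact congrArg (fun f => f.hom h) h2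

theorem exists_of_inv (V : A.M.left.affineOpens) (f : Γ(A.Z.left, A.π.left ⁻¹ᵁ V.1))
    (hf : ∀ g, tau A V.1 g f = f) : ∃ h : Γ(A.M.left, V.1), A.π.left.app V.1 h = f :=
  (A.functions V.1 V.2).2 f fun u v _ => hf (u, v)

/-- The stabilisers of the `k`-points act trivially on `θ / m_z θ`. -/
def TrivStab (θ : A.Z.left.IdealSheafData) : Prop :=
  ∀ (V : A.M.left.affineOpens) (z : Γ(A.Z.left, A.π.left ⁻¹ᵁ V.1) →ₐ[k] k) (g : Gr k A.b A.a),
    (∀ x, z (tau A V.1 g x) = z x) → ∀ s ∈ idl A θ V,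
      ∃ c, z c ≠ 0 ∧ c * (tau A V.1 g s - s) ∈ RingHom.ker z * idl A θ V

variable {A} {θ : A.Z.left.IdealSheafData}

theorem stable_ideal (hθ : ∀ g, θ.comap (sg (toAct A) g).left = θ) (V : A.M.left.affineOpens) (g : Gr k A.b A.a)
    (x : Γ(A.Z.left, A.π.left ⁻¹ᵁ V.1)) (hx : x ∈ idl A θ V) : tau A V.1 g x ∈ idl A θ V := by
  have h1 := Groth.Agent.Divis.IdealComap.ideal_comap θ (sg (toAct A) g).left (pre A V) (pre A V)
    (Stable.le (stable A V.1) g)
  rw [hθ] at h1
  exact (congrArg (fun I => tau A V.1 g x ∈ I) h1).mpr (Ideal.mem_map_of_mem _ hx)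

theorem chart_ring [IsAlgClosed k] [CharZero k] (heff : BlowUp.IsEffCartierIdeal θ)
    (hθ : ∀ g, θ.comap (sg (toAct A) g).left = θ) (htriv : TrivStab A θ) (V : A.M.left.affineOpens)
    (hV : IsReynolds A.π (fun γ => ∃ (u : GL (Fin A.b) k) (v : GL (Fin A.a) k),
      γ = A.act (matT A.Z u) (matT A.Z v) (𝟙 A.Z)) V.1) (p : Ideal Γ(A.M.left, V.1)) [p.IsPrime] :
    ∃ h₀, h₀ ∉ p ∧ ∃ a₀, A.π.left.app V.1 a₀ ∈ idl A θ V ∧
      ∀ x ∈ idl A θ V, ∃ b, A.π.left.app V.1 h₀ * x = A.π.left.app V.1 a₀ * b := by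
  obtain ⟨ρ, hρ, hρι, hρm, hρJ⟩ := hV
  have := finiteType A V
  have : IsNoetherianRing Γ(A.Z.left, A.π.left ⁻¹ᵁ V.1) := Algebra.FiniteType.isNoetherianRing k _
  have : IsNoetherianRing Γ(A.Z.left, (pre A V).1) := this
  have : Infinite k := IsAlgClosed.instInfinite
  exact ring_descent (isAct (stable A V.1)) (isAlg (pre A V).2 (stable A V.1)) exists_ev (A.π.left.app V.1).hom
    (A.functions V.1 V.2).1 (exists_of_inv A V) (fun h g => tau_app A V.1 h g) ρ hρ hρι hρm
    (fun J hJ => hρJ k[X] J fun γ hγ τ' e hτ' => by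
      obtain ⟨u, v, rfl⟩ := hγ
      have h1 : τ' = (tau A V.1 (u, v)).toLinearMap := LinearMap.ext hτ'
      rw [h1]
      exact hJ (u, v))
    (stable_ideal hθ V) (fun N hN => @exists_gen _ (pre A V) _ θ heff N hN) (htriv V) p

theorem mem_basicOpen {Y : Scheme.{u}} (V : Y.affineOpens) (x : Y) (hx : x ∈ V.1) (t : Γ(Y, V.1))
    (ht : t ∉ (V.2.primeIdealOf ⟨x, hx⟩).asIdeal) : x ∈ Y.basicOpen t := by
  let := Y.presheaf.algebra_section_stalk (⟨x, hx⟩ : V.1)
  have hloc : IsLocalization.AtPrime (Y.presheaf.stalk x) (V.2.primeIdealOf ⟨x, hx⟩).asIdeal :=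
    V.2.isLocalization_stalk ⟨x, hx⟩
  rw [Scheme.mem_basicOpen _ _ _ hx]
  exact IsLocalization.map_units (Y.presheaf.stalk x)
    (⟨t, ht⟩ : (V.2.primeIdealOf ⟨x, hx⟩).asIdeal.primeCompl)

/-- A generator is a nonzerodivisor. -/
theorem eq_zero_of_mul (heff : BlowUp.IsEffCartierIdeal θ) (W : A.M.left.affineOpens) {h : Γ(A.M.left, W.1)}
    (hh : idl A θ W = Ideal.span {A.π.left.app W.1 h}) (x : Γ(A.Z.left, A.π.left ⁻¹ᵁ W.1))
    (hx : A.π.left.app W.1 h * x = 0) : x = 0 := by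
  have := finiteType A W
  have : IsNoetherianRing Γ(A.Z.left, A.π.left ⁻¹ᵁ W.1) := Algebra.FiniteType.isNoetherianRing k _
  have : IsNoetherianRing Γ(A.Z.left, (pre A W).1) := this
  refine ann_eq_zero (I := idl A θ W) (fun N hN => @exists_gen _ (pre A W) _ θ heff N hN) x fun a ha => ?_
  rw [hh, Ideal.mem_span_singleton] at ha
  obtain ⟨b, rfl⟩ := ha
  rw [← mul_assoc, mul_comm x, hx, zero_mul]

theorem mem_nonZeroDivisors (heff : BlowUp.IsEffCartierIdeal θ) (W : A.M.left.affineOpens) {h : Γ(A.M.left, W.1)}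
    (hh : idl A θ W = Ideal.span {A.π.left.app W.1 h}) : h ∈ nonZeroDivisors Γ(A.M.left, W.1) := by
  rw [mem_nonZeroDivisors_iff_right]
  intro x hx
  apply (A.functions W.1 W.2).1
  rw [map_zero]
  refine eq_zero_of_mul heff W hh _ ?_
  rw [← map_mul, mul_comm, hx, map_zero]

theorem dvd_of_dvd (heff : BlowUp.IsEffCartierIdeal θ) (W : A.M.left.affineOpens) {h : Γ(A.M.left, W.1)}
    (hh : idl A θ W = Ideal.span {A.π.left.app W.1 h}) (g : Γ(A.M.left, W.1))
    (hg : A.π.left.app W.1 h ∣ A.π.left.app W.1 g) : h ∣ g := by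
  obtain ⟨c, hc⟩ := hg
  have h1 : ∀ γ, tau A W.1 γ c = c := by
    intro γ
    have h2 : A.π.left.app W.1 h * (tau A W.1 γ c - c) = 0 := by
      have h3 := congrArg (tau A W.1 γ) hc
      rw [map_mul, tau_app, tau_app] at h3
      rw [mul_sub, ← h3, ← hc, sub_self]
    exact sub_eq_zero.1 (eq_zero_of_mul heff W hh _ h2)
  obtain ⟨d, rfl⟩ := exists_of_inv A W c h1
  refine ⟨d, (A.functions W.1 W.2).1 ?_⟩
  rw [map_mul]
  exact hc

/-- **Kempf descent**: `θ` is generated by functions of `M`, locally on `M`. -/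
theorem exists_genAt [IsAlgClosed k] [CharZero k] (heff : BlowUp.IsEffCartierIdeal θ)
    (hθ : ∀ g, θ.comap (sg (toAct A) g).left = θ) (htriv : TrivStab A θ) (x : A.M.left) :
    have := A.aff
    ∃ V : A.M.left.affineOpens, x ∈ V.1 ∧ ∃ h : Γ(A.M.left, V), K562.DescIdeal.GenAt A.π.left θ V h ∧
      h ∈ nonZeroDivisors Γ(A.M.left, V) ∧
        ∀ g : Γ(A.M.left, V), (A.π.left.app V).hom h ∣ (A.π.left.app V).hom g → h ∣ g := by
  intro _
  obtain ⟨V, hxV, hV, hR⟩ := A.charts x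
  let V' : A.M.left.affineOpens := ⟨V, hV⟩
  obtain ⟨h₀, hh₀, a₀, ha₀, hgen⟩ := chart_ring heff hθ htriv V' hR (hV.primeIdealOf ⟨x, hxV⟩).asIdeal
  let W : A.M.left.affineOpens := A.M.left.affineBasicOpen (U := V') h₀
  have hW : W ≤ V' := A.M.left.basicOpen_le h₀
  have hW' : pre A W ≤ pre A V' := fun y hy => hW hy
  let r : Γ(A.M.left, V) ⟶ Γ(A.M.left, W.1) := A.M.left.presheaf.map (homOfLE hW).op
  let r' : Γ(A.Z.left, A.π.left ⁻¹ᵁ V) ⟶ Γ(A.Z.left, A.π.left ⁻¹ᵁ W.1) :=
    A.Z.left.presheaf.map (homOfLE hW').op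
  have hnat : ∀ y, A.π.left.app W.1 (r y) = r' (A.π.left.app V y) := fun y =>
    congrArg (fun f => f.hom y) (A.π.left.naturality (homOfLE hW).op)
  have hu : IsUnit (r h₀) := RingedSpace.isUnit_res_basicOpen _ h₀
  have h1 : idl A θ W = (idl A θ V').map r'.hom := (θ.map_ideal hW').symm
  have h2 : idl A θ W = Ideal.span {A.π.left.app W.1 (r a₀)} := by
    rw [h1, hnat]
    refine le_antisymm ?_ ?_
    · rw [Ideal.map_le_iff_le_comap]
      intro y hy
      obtain ⟨b, hb⟩ := hgen y hy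
      rw [Ideal.mem_comap, Ideal.mem_span_singleton]
      have h3 : IsUnit (r' (A.π.left.app V h₀)) := by
        rw [← hnat]
        exact hu.map (A.π.left.app W.1).hom
      rw [← h3.dvd_mul_left]
      refine ⟨r' b, ?_⟩
      have h4 := congrArg r' hb
      rw [map_mul, map_mul] at h4
      exact h4
    · rw [Ideal.span_singleton_le_iff_mem]
      exact Ideal.mem_map_of_mem _ ha₀
  exact ⟨W, mem_basicOpen V' x hxV h₀ hh₀, r a₀, h2, mem_nonZeroDivisors heff W h2, dvd_of_dvd heff W h2⟩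

/-- The pull-back of the image ideal is `θ`. -/
theorem comap_map_eq [IsAlgClosed k] [CharZero k] (heff : BlowUp.IsEffCartierIdeal θ)
    (hθ : ∀ g, θ.comap (sg (toAct A) g).left = θ) (htriv : TrivStab A θ) :
    (θ.map A.π.left).comap A.π.left = θ := by
  have := A.aff
  refine K562.DescIdeal.comap_map_eq A.π.left θ fun x => ?_
  obtain ⟨V, hV, h, h1, -⟩ := exists_genAt heff hθ htriv x
  exact ⟨V, hV, h, h1⟩

/-- The image ideal is effective Cartier. -/
theorem isEffCartier_map [IsAlgClosed k] [CharZero k] (heff : BlowUp.IsEffCartierIdeal θ)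
    (hθ : ∀ g, θ.comap (sg (toAct A) g).left = θ) (htriv : TrivStab A θ) :
    BlowUp.IsEffCartierIdeal (θ.map A.π.left) := by
  have := A.aff
  exact K562.DescIdeal.isEffCartier A.π.left θ fun x => exists_genAt heff hθ htriv x

/-- The vanishing ideal of the closure of the image of the zero locus of a radical `θ`. -/
theorem main [IsAlgClosed k] [CharZero k] (heff : BlowUp.IsEffCartierIdeal θ) (hrad : θ.radical = θ)
    (hθ : ∀ g, θ.comap (sg (toAct A) g).left = θ) (htriv : TrivStab A θ) (S : Set A.M.left)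
    (hS : closure S = closure (A.π.left '' (θ.support : Set A.Z.left))) :
    (Scheme.IdealSheafData.vanishingIdeal ⟨closure S, isClosed_closure⟩).comap A.π.left = θ ∧
      BlowUp.IsEffCartierIdeal (Scheme.IdealSheafData.vanishingIdeal ⟨closure S, isClosed_closure⟩) := by
  have := A.aff
  rw [K562.DescIdeal.vanishingIdeal_closure_eq A.π.left θ hrad S hS]
  exact ⟨comap_map_eq heff hθ htriv, isEffCartier_map heff hθ htriv⟩

end Groth.Agent.BunMod.K356.Descend
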