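import Groth.Agent.BunMod.K356.FixRel
import Groth.Agent.BunMod.K892.DetAut
import Groth.Agent.BunMod.K140.Defs2

/-!
# Determinants at a fixed point

`G` a semistable bundle of degree `0` on `X_k`, `ψ` an endomorphism; the matrices of `ψ` on the sections of `G ⊗ L` and of
`G ⊗ Q` have the same determinant (K892 in terms of bases over `Γ(Spec k, O)`).
-/

set_option autoImplicit false

universe u

open CategoryTheory CategoryTheory.Limits AlgebraicGeometry TensorProduct

namespace Groth.Agent.BunMod.K356.FixDet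

open K140.BM K54.Theta K54.FamSec K54.GenPull

section Lin

variable {R k M : Type*} [CommRing R] [Field k] (κ : R ≃+* k) [AddCommGroup M] [Module R M] {n : ℕ} {e : Fin n → M}
  (he : ∀ x : M, ∃! c : Fin n → R, x = ∑ i, c i • e i)

include he in
theorem exists_basis : ∃ b : Module.Basis (Fin n) R M, ∀ i, b i = e i := by
  have hli : LinearIndependent R e := by
    rw [Fintype.linearIndependent_iff]
    intro g hg
    have h := (he 0).unique (y₁ := g) (y₂ := 0) hg.symm (by simp)
    exact fun i => congrFun h i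
  have hsp : ⊤ ≤ Submodule.span R (Set.range e) := by
    intro x _
    obtain ⟨c, hc, -⟩ := he x
    rw [hc]
    exact Submodule.sum_mem _ fun i _ => Submodule.smul_mem _ _ (Submodule.subset_span ⟨i, rfl⟩)
  exact ⟨Module.Basis.mk hli hsp, fun i => Module.Basis.mk_apply hli hsp i⟩

/-- Coordinates in `k`. -/
noncomputable def co (b : Module.Basis (Fin n) R M) : M ≃+ (Fin n → k) :=
  b.equivFun.toAddEquiv.trans (AddEquiv.piCongrRight fun _ => κ.toAddEquiv)

theorem co_apply (b : Module.Basis (Fin n) R M) (x : M) (i : Fin n) : co κ b x i = κ (b.repr x i) := rfl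

theorem co_smul (b : Module.Basis (Fin n) R M) (r : R) (x : M) : co κ b (r • x) = κ r • co κ b x := by
  funext i
  rw [co_apply, map_smul, Finsupp.smul_apply, smul_eq_mul, map_mul, Pi.smul_apply, co_apply, smul_eq_mul]

theorem toLin_co (b : Module.Basis (Fin n) R M) (φ : M →ₗ[R] M) (A : Matrix (Fin n) (Fin n) R)
    (hA : ∀ j, φ (b j) = ∑ i, A i j • b i) (x : M) :
    Matrix.toLin' (A.map κ) (co κ b x) = co κ b (φ x) := by
  have h1 : φ x = ∑ i, (∑ j, A i j * b.repr x j) • b i := by
    conv_lhs => rw [← b.sum_repr x, map_sum]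
    simp only [map_smul, hA, Finset.smul_sum, smul_smul, Finset.sum_smul]
    rw [Finset.sum_comm]
    exact Finset.sum_congr rfl fun l _ => Finset.sum_congr rfl fun i _ => by rw [mul_comm]
  funext i
  rw [Matrix.toLin'_apply, co_apply, h1, map_sum, Finsupp.finsetSum_apply, Finset.sum_eq_single i]
  · rw [map_smul, Finsupp.smul_apply, b.repr_self, Finsupp.single_eq_same, smul_eq_mul, mul_one, map_sum]
    simp only [map_mul]
    rfl
  · intro l _ hl
    rw [map_smul, Finsupp.smul_apply, b.repr_self, Finsupp.single_eq_of_ne (Ne.symm hl), smul_zero]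
  · intro h
    exact absurd (Finset.mem_univ _) h

theorem det_toLin (A : Matrix (Fin n) (Fin n) R) : LinearMap.det (Matrix.toLin' (A.map κ)) = κ A.det := by
  rw [LinearMap.det_toLin', ← RingEquiv.coe_toRingHom, ← RingHom.mapMatrix_apply, ← RingHom.map_det]

end Lin

section Curve

variable {k : Type u} [Field k] {X : Scheme.{u}} [X.Over (Spec (CommRingCat.of k))]

/-- Functions on `Spec k`. -/
noncomputable def kap (s : Spec (CommRingCat.of k) ⟶ B0 k) : Γ((Over.mk s).left, ⊤) ≃+* k :=
  (Scheme.ΓSpecIso (CommRingCat.of k)).commRingCatIsoToRingEquiv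

theorem kap_inv (s : Spec (CommRingCat.of k) ⟶ B0 k) (c : k) :
    kap s ((Scheme.ΓSpecIso (CommRingCat.of k)).inv.hom c) = c :=
  congrArg (fun f => f.hom c) (Scheme.ΓSpecIso (CommRingCat.of k)).inv_hom_id

/-- The numerical and cohomological facts needed at a point. -/
structure PtOK (s : Spec (CommRingCat.of k) ⟶ B0 k) (L Q : X.Modules)
    (G : (PicF.XT (st k X) (Over.mk s)).Modules) : Prop where
  cohL : Coh.IsCoh (cst k (Over.mk s) L)
  cohQ : Coh.IsCoh (cst k (Over.mk s) Q)
  euler : letI : (PicF.XT (st k X) (Over.mk s)).Over (Spec (CommRingCat.of k)) := ⟨PicF.XTproj (st k X) (Over.mk s)⟩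
    Curv2.euler k (PicF.XT (st k X) (Over.mk s)) (cst k (Over.mk s) L) =
      Curv2.euler k (PicF.XT (st k X) (Over.mk s)) (cst k (Over.mk s) Q)
  h1L : Subsingleton (Coh.HH _ (Tw G L) 1)
  h1Q : Subsingleton (Coh.HH _ (Tw G Q) 1)

variable [IsAlgClosed k]

theorem det_pt (s : Spec (CommRingCat.of k) ⟶ B0 k) [IsIntegral (PicF.XT (st k X) (Over.mk s))]
    [IsProper (PicF.XTproj (st k X) (Over.mk s))] (hdim : topologicalKrullDim (PicF.XT (st k X) (Over.mk s)) = 1)
    {L Q : X.Modules} {G : (PicF.XT (st k X) (Over.mk s)).Modules} (hok : PtOK s L Q G) {r : ℕ} (hG : SSB r s G)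
    {n : ℕ} {e : Fin n → Sec (Tw G L)} {f : Fin n → Sec (Tw G Q)}
    (he : ∀ x : Sec (Tw G L), ∃! c : Fin n → Γ((Over.mk s).left, ⊤), x = ∑ i, c i • e i)
    (hf : ∀ x : Sec (Tw G Q), ∃! c : Fin n → Γ((Over.mk s).left, ⊤), x = ∑ i, c i • f i)
    (ψ : G ⟶ G) (A B : Matrix (Fin n) (Fin n) Γ((Over.mk s).left, ⊤))
    (hA : ∀ j, smap (lmap ψ L) (e j) = ∑ i, A i j • e i) (hB : ∀ j, smap (lmap ψ Q) (f j) = ∑ i, B i j • f i) :
    A.det = B.det := by
  obtain ⟨b, hb⟩ := exists_basis he
  obtain ⟨b', hb'⟩ := exists_basis hf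
  apply (kap s).injective
  rw [← det_toLin (kap s) A, ← det_toLin (kap s) B]
  let _ : (PicF.XT (st k X) (Over.mk s)).Over (Spec (CommRingCat.of k)) := ⟨PicF.XTproj (st k X) (Over.mk s)⟩
  have : IsProper (PicF.XT (st k X) (Over.mk s) ↘ Spec (CommRingCat.of k)) :=
    inferInstanceAs (IsProper (PicF.XTproj (st k X) (Over.mk s)))
  obtain ⟨h1, h2, h3⟩ := hG
  let cL : Sec (Tw G L) ≃+ (Fin n → k) := co (kap s) b
  let cQ : Sec (Tw G Q) ≃+ (Fin n → k) := co (kap s) b'
  refine K892.DetAut.det_eq_sections k hdim h1 h3 h2 hok.cohL hok.cohQ hok.euler hok.h1L hok.h1Q ψ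
    cL ?_ (Matrix.toLin' (A.map (kap s))) ?_ cQ ?_ (Matrix.toLin' (B.map (kap s))) ?_
  · intro c x
    have h4 := co_smul (kap s) b ((Scheme.ΓSpecIso (CommRingCat.of k)).inv.hom c) x
    rw [kap_inv] at h4
    exact h4
  · intro x
    exact toLin_co (kap s) b (smap (lmap ψ L)) A (fun j => by simpa only [hb] using hA j) x
  · intro c x
    have h4 := co_smul (kap s) b' ((Scheme.ΓSpecIso (CommRingCat.of k)).inv.hom c) x
    rw [kap_inv] at h4
    exact h4
  · intro x
    exact toLin_co (kap s) b' (smap (lmap ψ Q)) B (fun j => by simpa only [hb'] using hB j) x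

end Curve

end Groth.Agent.BunMod.K356.FixDet
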