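import Groth.Agent.BunMod.K356.FixPt
import Groth.Agent.BunMod.K54.UB

/-!
# The theta ideal of an atlas: stability and trivial characters

* `comap_sg`: the theta ideal of the atlas is stable under the group;
* `trivStab_theta`: the stabilisers of the `k`-points act trivially on `θ / m_z θ` for the theta ideal `θ`, given local
  presentations of the theta ideal by determinants in universal bases.
-/

set_option autoImplicit false

universe u

open CategoryTheory CategoryTheory.Limits AlgebraicGeometry TensorProduct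

namespace Groth.Agent.BunMod.K356.FixFin

open K140.BM K54.Theta K54.FamSec K54.GenPull K54.UB
open Groth.Agent.BunMod.K356.RegFun Groth.Agent.BunMod.K356.AtlasAct
  Groth.Agent.BunMod.K356.Descend Groth.Agent.BunMod.K356.TrivStab Groth.Agent.BunMod.K356.FixRel
  Groth.Agent.BunMod.K356.FixDet Groth.Agent.BunMod.K356.FixPt

variable {k : Type u} [Field k] {X : Scheme.{u}} [X.Over (Spec (CommRingCat.of k))]
  {P : ∀ T : Over (B0 k), (ModFun.modProb (st k X)).Fam T → Prop} {A : AtlasC k X P}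

/-- **The theta ideal of the atlas is stable.** -/
theorem comap_sg [IsProper (st k X)] (hdim : topologicalKrullDim X ≤ 1) {N : X.Modules}
    (hN : FlatMod.IsFinLocFree N) (hE : FlatMod.IsFinLocFree A.E) (g : Gr k A.b A.a) :
    (thetaIdeal k N A.Z A.E).comap (sg (toAct A) g).left = thetaIdeal k N A.Z A.E := by
  obtain ⟨ε⟩ := exists_sg_iso (A := A) g
  rw [thetaIdeal_pl hdim hN (sg (toAct A) g) hE]
  exact thetaIdeal_iso hdim hN (PerfC.PullRestrict.isFinLocFree_pullback _ hE) hE ε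

/-- Ideals on `W` and on the scheme `W`. -/
theorem ideal_of_top {Z : Over (B0 k)} (θ : Z.left.IdealSheafData) (W : Z.left.affineOpens)
    (haf : IsAffineOpen (⊤ : (opn Z W.1).left.Opens)) (δ : Γ((opn Z W.1).left, ⊤))
    (h : (θ.comap (opi Z W.1).left).ideal ⟨⊤, haf⟩ = Ideal.span {δ}) (f₀ : Γ(Z.left, W.1)) (hf₀ : top W.1 f₀ = δ) :
    θ.ideal W = Ideal.span {f₀} := by
  have e : ⊤ ≤ (opi Z W.1).left ⁻¹ᵁ W.1 := by
    show ⊤ ≤ W.1.ι ⁻¹ᵁ W.1
    rw [Scheme.Opens.ι_preimage_self]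
  have h1 : (θ.comap (opi Z W.1).left).ideal ⟨⊤, haf⟩ =
      (θ.ideal W).map ((opi Z W.1).left.appLE W.1 ⊤ e).hom :=
    Groth.Agent.Divis.IdealComap.ideal_comap θ (opi Z W.1).left W ⟨⊤, haf⟩ e
  have hb : Function.Bijective ((opi Z W.1).left.appLE W.1 ⊤ e).hom := bijective_top W.1
  rw [h] at h1
  have h2 : (Ideal.span {f₀}).map ((opi Z W.1).left.appLE W.1 ⊤ e).hom = Ideal.span {δ} := by
    rw [Ideal.map_span, Set.image_singleton]
    exact congrArg (fun x => Ideal.span {x}) hf₀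
  rw [← Ideal.comap_map_of_bijective _ hb (I := θ.ideal W), ← h1, ← h2, Ideal.comap_map_of_bijective _ hb]

/-- **The stabilisers act trivially.** -/
theorem trivStab_theta [IsAlgClosed k] [IsProper (st k X)] [IsIntegral (PicF.XT (st k X) (SpecO k k))]
    (hdim : topologicalKrullDim X ≤ 1) (hdim' : topologicalKrullDim (PicF.XT (st k X) (SpecO k k)) = 1)
    {N L R : X.Modules} (hN : FlatMod.IsFinLocFree N) (hE : FlatMod.IsFinLocFree A.E) (s : L ⟶ R) {r : ℕ}
    (hpt : ∀ (t : SpecO k k ⟶ A.Z) (G : (PicF.XT (st k X) (SpecO k k)).Modules), Nonempty (G ≅ pl k X t A.E) →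
      SSB r (Spec.map (CommRingCat.ofHom (algebraMap k k))) G ∧
        PtOK (Spec.map (CommRingCat.ofHom (algebraMap k k))) L R G)
    (hloc : ∀ z : A.Z.left, ∃ (W : A.Z.left.affineOpens) (haf : IsAffineOpen (⊤ : (opn A.Z W.1).left.Opens)) (n : ℕ)
      (e : Fin n → Sec (Tw (pl k X (opi A.Z W.1) A.E) L)) (f : Fin n → Sec (Tw (pl k X (opi A.Z W.1) A.E) R))
      (D : Matrix (Fin n) (Fin n) Γ((opn A.Z W.1).left, ⊤)), z ∈ W.1 ∧ IsUB (Tw (pl k X (opi A.Z W.1) A.E) L) e ∧
      IsUB (Tw (pl k X (opi A.Z W.1) A.E) R) f ∧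
      (∀ j, smap (rmap (pl k X (opi A.Z W.1) A.E) s) (e j) = ∑ i, D i j • f i) ∧
      (thetaIdeal k N (opn A.Z W.1) (pl k X (opi A.Z W.1) A.E)).ideal ⟨⊤, haf⟩ = Ideal.span {D.det}) :
    TrivStab A (thetaIdeal k N A.Z A.E) := by
  have hprop : IsProper (PicF.XTproj (st k X) (SpecO k k)) :=
    inferInstanceAs (IsProper (pullback.snd (st k X) (SpecO k k).hom))
  refine trivStab_of_local fun t g htσ => ?_
  let y₀ : (SpecO k k).left := (default : Spec (CommRingCat.of k))
  obtain ⟨W, haf, n, e, f, D, hz, he, hf, hD, hdet⟩ := hloc (t.left y₀)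
  have hW : ⊤ ≤ t.left ⁻¹ᵁ W.1 := by
    intro y _
    have : y = y₀ := Subsingleton.elim (α := Spec (CommRingCat.of k)) y y₀
    rw [this]
    exact hz
  obtain ⟨f₀, hf₀⟩ := (bijective_top W.1).2 D.det
  obtain ⟨W', e₁, e', et, u, h1, h2⟩ := local_of_data hdim' s t g htσ (hpt t) W.1 hW e f (fun {T'} g x => he.tw g x)
    (fun {T'} g x => hf.tw g x) D hD f₀ hf₀
  refine ⟨W, f₀, W', e₁, e', et, u, ?_, h1, h2⟩
  rw [← thetaIdeal_pl hdim hN (opi A.Z W.1) hE] at hdet
  exact ideal_of_top (thetaIdeal k N A.Z A.E) W haf D.det hdet f₀ hf₀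

end Groth.Agent.BunMod.K356.FixFin
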