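import Groth.Agent.BunMod.K356.Descend

/-!
# Local form of the triviality of the characters of the stabilisers

`trivStab_of_local`: if around every `k`-point `t` of `Z` fixed by `g` the ideal `θ` is generated by a function `f` such
that `g^* f = u f` near `t` with `u(t) = 1` then `TrivStab A θ`.
-/

set_option autoImplicit false

universe u

open CategoryTheory CategoryTheory.Limits AlgebraicGeometry TensorProduct

namespace Groth.Agent.BunMod.K356.TrivStab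

open K140.BM Groth.Agent.BunMod.K356.Orbit Groth.Agent.BunMod.K356.RegFun Groth.Agent.BunMod.K356.AtlasAct
  Groth.Agent.BunMod.K356.Descend

attribute [local instance] algOn

section

variable {k : Type u} [Field k] {Z : Over (B0 k)}

/-- The value at the `k`-point `t` of a function on an open containing `t`. -/
noncomputable def vl (t : SpecO k k ⟶ Z) {W : Z.left.Opens} (e : ⊤ ≤ t.left ⁻¹ᵁ W) (x : Γ(Z.left, W)) : k :=
  fn t e x

/-- Restriction. -/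
noncomputable def rs {W W' : Z.left.Opens} (e : W' ≤ W) : Γ(Z.left, W) →ₐ[k] Γ(Z.left, W') := apA (𝟙 Z) W W' e

theorem rs_apply {W W' : Z.left.Opens} (e : W' ≤ W) (x : Γ(Z.left, W)) :
    rs e x = Z.left.presheaf.map (homOfLE e).op x := by
  have : (𝟙 Z : Z ⟶ Z).left.appLE W W' e = Z.left.presheaf.map (homOfLE e).op := by
    show 𝟙 _ ≫ Z.left.presheaf.map (homOfLE e).op = _
    exact Category.id_comp _
  rw [rs, apA_apply, this]

theorem rs_rs {W W' W'' : Z.left.Opens} (e : W' ≤ W) (e' : W'' ≤ W') (x : Γ(Z.left, W)) :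
    rs e' (rs e x) = rs (e'.trans e) x := by
  rw [rs_apply, rs_apply, rs_apply, ← CommRingCat.comp_apply, ← Functor.map_comp]
  rfl

theorem apA_rs {s : Z ⟶ Z} {W W₁ W' : Z.left.Opens} (e : W₁ ≤ W) (e' : W' ≤ s.left ⁻¹ᵁ W₁)
    (e'' : W' ≤ s.left ⁻¹ᵁ W) (x : Γ(Z.left, W)) : apA s W₁ W' e' (rs e x) = apA s W W' e'' x := by
  have e3 : W' ≤ (s ≫ 𝟙 Z).left ⁻¹ᵁ W := by rw [Category.comp_id]; exact e''
  rw [rs, apA_comp (𝟙 Z) s W W₁ W' e e' e3]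
  exact apA_congr (Category.comp_id s) _ _ _ _ _

theorem rs_apA {s : Z ⟶ Z} {W W₁ W' : Z.left.Opens} (e : W' ≤ W₁) (e' : W₁ ≤ s.left ⁻¹ᵁ W)
    (e'' : W' ≤ s.left ⁻¹ᵁ W) (x : Γ(Z.left, W)) : rs e (apA s W W₁ e' x) = apA s W W' e'' x := by
  have e3 : W' ≤ (𝟙 Z ≫ s).left ⁻¹ᵁ W := by rw [Category.id_comp]; exact e''
  rw [rs, apA_comp s (𝟙 Z) W W₁ W' e' e e3]
  exact apA_congr (Category.id_comp s) _ _ _ _ _

theorem vl_apA (t : SpecO k k ⟶ Z) (s : Z ⟶ Z) {W W' : Z.left.Opens} (e : ⊤ ≤ t.left ⁻¹ᵁ W')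
    (e' : W' ≤ s.left ⁻¹ᵁ W) (e'' : ⊤ ≤ (t ≫ s).left ⁻¹ᵁ W) (x : Γ(Z.left, W)) :
    vl t e (apA s W W' e' x) = vl (t ≫ s) e'' x := by
  show (Scheme.ΓSpecIso (CommRingCat.of k)).hom.hom (apA t W' ⊤ e (apA s W W' e' x)) =
    (Scheme.ΓSpecIso (CommRingCat.of k)).hom.hom (apA (t ≫ s) W ⊤ e'' x)
  rw [apA_comp s t W W' ⊤ e' e e'']

theorem vl_congr {t t' : SpecO k k ⟶ Z} (h : t = t') {W : Z.left.Opens} (e : ⊤ ≤ t.left ⁻¹ᵁ W)
    (e' : ⊤ ≤ t'.left ⁻¹ᵁ W) (x : Γ(Z.left, W)) : vl t e x = vl t' e' x := by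
  subst h
  rfl

theorem vl_rs (t : SpecO k k ⟶ Z) {W W' : Z.left.Opens} (e : ⊤ ≤ t.left ⁻¹ᵁ W') (e' : W' ≤ W)
    (e'' : ⊤ ≤ t.left ⁻¹ᵁ W) (x : Γ(Z.left, W)) : vl t e (rs e' x) = vl t e'' x := by
  have e3 : ⊤ ≤ (t ≫ 𝟙 Z).left ⁻¹ᵁ W := by rw [Category.comp_id]; exact e''
  rw [rs, vl_apA t (𝟙 Z) e e' e3]
  exact vl_congr (Category.comp_id t) _ _ _

theorem pt_sg {b a : ℕ} {A : Act Z b a} {U : Z.left.Opens} (hU : IsAffineOpen U) (hst : Stable A U) {R : Type u}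
    [CommRing R] [Algebra k R] (φ : Γ(Z.left, U) →ₐ[k] R) (g : Gr k b a) :
    pt hU φ ≫ sg A g = pt hU (φ.comp (τ hst g)) := by
  refine Over.OverMorphism.ext ?_
  show (Spec.map _ ≫ hU.fromSpec) ≫ (sg A g).left = Spec.map _ ≫ hU.fromSpec
  rw [Category.assoc, ← IsAffineOpen.SpecMap_appLE_fromSpec (sg A g).left hU hU (hst.le g), ← Category.assoc,
    ← Spec.map_comp]
  rfl

end

variable {k : Type u} [Field k] {X : Scheme.{u}} [X.Over (Spec (CommRingCat.of k))]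
  {Q : ∀ T : Over (B0 k), (ModFun.modProb (st k X)).Fam T → Prop} {A : AtlasC k X Q}
  {θ : A.Z.left.IdealSheafData}

/-- **Local criterion for `TrivStab`.** -/
theorem trivStab_of_local (h : ∀ (t : SpecO k k ⟶ A.Z) (g : Gr k A.b A.a), t ≫ sg (toAct A) g = t →
      ∃ (W : A.Z.left.affineOpens) (f : Γ(A.Z.left, W.1)) (W' : A.Z.left.Opens) (e : W' ≤ W.1)
        (e' : W' ≤ (sg (toAct A) g).left ⁻¹ᵁ W.1) (et : ⊤ ≤ t.left ⁻¹ᵁ W') (u : Γ(A.Z.left, W')),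
        θ.ideal W = Ideal.span {f} ∧ apA (sg (toAct A) g) W.1 W' e' f = u * rs e f ∧ vl t et u = 1) :
    TrivStab A θ := by
  intro V z g hz s hs
  let σ := sg (toAct A) g
  let U : A.Z.left.Opens := A.π.left ⁻¹ᵁ V.1
  have hU : IsAffineOpen U := (pre A V).2
  let t : SpecO k k ⟶ A.Z := pt hU z
  have etU : ⊤ ≤ t.left ⁻¹ᵁ U := pt_le hU z
  have hvl : ∀ x : Γ(A.Z.left, U), vl t etU x = z x := fun x => fn_pt hU z x
  -- the point is fixed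
  have htσ : t ≫ σ = t := by
    refine (pt_sg hU (stable A V.1) z g).trans ?_
    have : z.comp (τ (stable A V.1) g) = z := AlgHom.ext hz
    rw [this]
  obtain ⟨W, f, W', e, e', et, u, hf, hu, hu1⟩ := h t g htσ
  -- the point of `Z`
  let y₀ : (SpecO k k).left := (default : Spec (CommRingCat.of k))
  let x₀ : A.Z.left := t.left y₀
  have hx : ∀ O : A.Z.left.Opens, ⊤ ≤ t.left ⁻¹ᵁ O ↔ x₀ ∈ O := by
    intro O
    constructor
    · intro hO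
      exact hO (show y₀ ∈ (⊤ : (SpecO k k).left.Opens) from trivial)
    · intro hO y _
      have : y = y₀ := Subsingleton.elim (α := Spec (CommRingCat.of k)) y y₀
      rw [this]
      exact hO
  have hσx : σ.left x₀ = x₀ := congrArg (fun q : SpecO k k ⟶ A.Z => q.left y₀) htσ
  have hxU : x₀ ∈ U := (hx U).1 etU
  have hxW' : x₀ ∈ W' := (hx W').1 et
  -- a basic open of `W ∩ U`
  obtain ⟨c₁, hc₁, hx₁⟩ := hU.exists_basicOpen_le (V := W.1 ⊓ U) ⟨x₀, ⟨e hxW', hxU⟩⟩ hxU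
  let B₁ : A.Z.left.Opens := A.Z.left.basicOpen c₁
  let D₁ : A.Z.left.affineOpens := A.Z.left.affineBasicOpen (U := ⟨U, hU⟩) c₁
  have h1W : B₁ ≤ W.1 := fun y hy => (hc₁ hy).1
  have h1U : B₁ ≤ U := fun y hy => (hc₁ hy).2
  have h1W' : D₁ ≤ W := h1W
  have h1U' : D₁ ≤ pre A V := h1U
  have et1 : ⊤ ≤ t.left ⁻¹ᵁ B₁ := (hx _).2 hx₁
  obtain ⟨c, hc⟩ : ∃ c, rs h1U s = c * rs h1W f := by
    have h2 : rs h1U s ∈ θ.ideal D₁ := by
      rw [← θ.map_ideal h1U', rs_apply]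
      exact Ideal.mem_map_of_mem _ hs
    have h3 : (θ.ideal D₁ : Ideal Γ(A.Z.left, B₁)) = Ideal.span {rs h1W f} := by
      rw [← θ.map_ideal h1W', hf, Ideal.map_span, Set.image_singleton, rs_apply]
      rfl
    obtain ⟨c, hc⟩ := Ideal.mem_span_singleton.1 ((congrArg (fun I => rs h1U s ∈ I) h3).mp h2)
    exact ⟨c, hc.trans (mul_comm _ _)⟩
  -- a smaller basic open
  obtain ⟨c₀, hc₀, hx₀⟩ := hU.exists_basicOpen_le (V := B₁ ⊓ (σ.left ⁻¹ᵁ B₁ ⊓ W'))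
    ⟨x₀, ⟨hx₁, (show σ.left x₀ ∈ B₁ by rw [hσx]; exact hx₁), hxW'⟩⟩ hxU
  let B₀ : A.Z.left.Opens := A.Z.left.basicOpen c₀
  let D₀ : A.Z.left.affineOpens := A.Z.left.affineBasicOpen (U := ⟨U, hU⟩) c₀
  have h01 : B₀ ≤ B₁ := fun y hy => (hc₀ hy).1
  have h0σ : B₀ ≤ σ.left ⁻¹ᵁ B₁ := fun y hy => (hc₀ hy).2.1
  have h0W' : B₀ ≤ W' := fun y hy => (hc₀ hy).2.2
  have h0U : B₀ ≤ U := h01.trans h1U
  have h0W : B₀ ≤ W.1 := h01.trans h1W
  have h0U' : D₀ ≤ pre A V := h0U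
  have h0Wa : D₀ ≤ W := h0W
  have et0 : ⊤ ≤ t.left ⁻¹ᵁ B₀ := (hx _).2 hx₀
  -- the difference on the small open
  let w : Γ(A.Z.left, B₀) := apA σ B₁ B₀ h0σ c * rs h0W' u - rs h01 c
  have hw : rs h0U (tau A V.1 g s - s) = w * rs h0W f := by
    have h3 : rs h0U (tau A V.1 g s) = apA σ B₁ B₀ h0σ c * (rs h0W' u * rs h0W f) := by
      have h6 : B₀ ≤ σ.left ⁻¹ᵁ U := fun y hy => Stable.le (stable A V.1) g (h0U hy)
      have h4 : rs h0U (tau A V.1 g s) = apA σ B₁ B₀ h0σ (rs h1U s) :=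
        (rs_apA h0U (Stable.le (stable A V.1) g) h6 s).trans (apA_rs h1U h0σ h6 s).symm
      have h7 : B₀ ≤ σ.left ⁻¹ᵁ W.1 := fun y hy => e' (h0W' hy)
      rw [h4, hc, map_mul, apA_rs h1W h0σ h7 f, ← rs_apA h0W' e' h7 f, hu, map_mul, rs_rs]
    have h5 : rs h0U s = rs h01 c * rs h0W f := by
      rw [← rs_rs h1U h01, hc, map_mul, rs_rs]
    rw [map_sub, h3, h5]
    ring
  have hw0 : vl t et0 w = 0 := by
    have h3 : vl t et0 (apA σ B₁ B₀ h0σ c) = vl t et1 c := by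
      have h4 : ⊤ ≤ (t ≫ σ).left ⁻¹ᵁ B₁ := by rw [htσ]; exact et1
      rw [vl_apA t σ et0 h0σ h4]
      exact vl_congr htσ _ _ _
    have h5 : vl t et0 w = vl t et0 (apA σ B₁ B₀ h0σ c) * vl t et0 (rs h0W' u) - vl t et0 (rs h01 c) :=
      (map_sub (fn t et0) _ _).trans (congrArg (· - _) (map_mul (fn t et0) _ _))
    rw [h5, h3, vl_rs t et0 h0W' et, hu1, mul_one, vl_rs t et0 h01 et1, sub_self]
  -- clearing denominators
  have inst : IsLocalization.Away c₀ Γ(A.Z.left, A.Z.left.basicOpen c₀) := hU.isLocalization_basicOpen c₀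
  have hr : ∀ x : Γ(A.Z.left, U), algebraMap Γ(A.Z.left, U) Γ(A.Z.left, A.Z.left.basicOpen c₀) x = rs h0U x :=
    fun x => (rs_apply h0U x).symm
  obtain ⟨⟨w₀, ⟨_, n, rfl⟩⟩, hw₀⟩ := IsLocalization.surj (S := Γ(A.Z.left, A.Z.left.basicOpen c₀))
    (Submonoid.powers c₀) w
  have hf' : rs h0W f ∈ (θ.ideal (pre A V)).map
      (algebraMap Γ(A.Z.left, U) Γ(A.Z.left, A.Z.left.basicOpen c₀)) := by
    have h3 : rs h0W f ∈ θ.ideal D₀ := by
      rw [← θ.map_ideal h0Wa, rs_apply]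
      refine Ideal.mem_map_of_mem _ ?_
      rw [hf]
      exact Ideal.mem_span_singleton_self f
    rw [← θ.map_ideal h0U'] at h3
    exact h3
  obtain ⟨⟨⟨f₀, hf₀⟩, ⟨_, m, rfl⟩⟩, hf₁⟩ := (IsLocalization.mem_map_algebraMap_iff
    (S := Γ(A.Z.left, A.Z.left.basicOpen c₀)) (Submonoid.powers c₀)).1 hf'
  have hunit : IsUnit (rs h0U c₀) := by
    rw [← hr]
    exact IsLocalization.Away.algebraMap_isUnit c₀
  have hzc : z c₀ ≠ 0 := by
    rw [← hvl, ← vl_rs t et0 h0U etU]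
    exact (hunit.map (fn t et0)).ne_zero
  have h6 : algebraMap Γ(A.Z.left, U) Γ(A.Z.left, A.Z.left.basicOpen c₀) (c₀ ^ n * c₀ ^ m * (tau A V.1 g s - s)) =
      algebraMap Γ(A.Z.left, U) Γ(A.Z.left, A.Z.left.basicOpen c₀) (w₀ * f₀) := by
    rw [map_mul, map_mul, map_mul, hr (tau A V.1 g s - s), hw]
    calc _ = (w * algebraMap Γ(A.Z.left, U) Γ(A.Z.left, A.Z.left.basicOpen c₀) (c₀ ^ n)) *
          (rs h0W f * algebraMap Γ(A.Z.left, U) Γ(A.Z.left, A.Z.left.basicOpen c₀) (c₀ ^ m)) := by ring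
      _ = _ := by rw [hw₀, hf₁]
  obtain ⟨⟨_, l, rfl⟩, h7⟩ := (IsLocalization.eq_iff_exists (Submonoid.powers c₀) _).1 h6
  refine ⟨c₀ ^ l * (c₀ ^ n * c₀ ^ m), ?_, ?_⟩
  · rw [map_mul, map_mul, map_pow, map_pow, map_pow]
    exact mul_ne_zero (pow_ne_zero _ hzc) (mul_ne_zero (pow_ne_zero _ hzc) (pow_ne_zero _ hzc))
  · have h8 : c₀ ^ l * (c₀ ^ n * c₀ ^ m) * (tau A V.1 g s - s) = c₀ ^ l * (w₀ * f₀) := by
      rw [mul_assoc]
      exact h7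
    rw [h8]
    refine Ideal.mul_mem_left _ _ (Ideal.mul_mem_mul ?_ hf₀)
    rw [RingHom.mem_ker, ← hvl, ← vl_rs t et0 h0U etU, ← hr, ← hw₀]
    exact (map_mul (fn t et0) _ _).trans (by rw [show fn t et0 w = 0 from hw0, zero_mul])

end Groth.Agent.BunMod.K356.TrivStab
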