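import Groth.Agent.BunMod.K356.FixDet
import Groth.Agent.BunMod.K356.TrivStab

/-!
# The stabilisers act trivially on the theta ideal

`local_of_data`: near a `k`-point `t` of the atlas `Z` fixed by `g`, with universal bases `e`, `f` of the sections of
`E ⊗ L`, `E ⊗ R` and the matrix `D` of the map given by `s : L ⟶ R`, the function `det D` satisfies
`g^* det D = u det D` with `u(t) = 1`.
-/

set_option autoImplicit false

universe u

open CategoryTheory CategoryTheory.Limits AlgebraicGeometry TensorProduct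

namespace Groth.Agent.BunMod.K356.FixPt

open K140.BM K54.Theta K54.FamSec K54.GenPull
open Groth.Agent.BunMod.K356.RegFun Groth.Agent.BunMod.K356.AtlasAct
  Groth.Agent.BunMod.K356.Descend Groth.Agent.BunMod.K356.TrivStab Groth.Agent.BunMod.K356.FixRel
  Groth.Agent.BunMod.K356.FixDet

attribute [local instance] algOn

variable {k : Type u} [Field k] {X : Scheme.{u}} [X.Over (Spec (CommRingCat.of k))]

section Opn

variable {Z : Over (B0 k)}

/-- Functions on the open `W` of `Z`. -/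
noncomputable def top (W : Z.left.Opens) : Γ(Z.left, W) →ₐ[k] Γ((opn Z W).left, ⊤) :=
  apA (opi Z W) W ⊤ (by
    show ⊤ ≤ W.ι ⁻¹ᵁ W
    rw [Scheme.Opens.ι_preimage_self])

theorem bijective_top (W : Z.left.Opens) : Function.Bijective (top W) := by
  have h1 : W ≤ W.ι.opensRange := (Scheme.Opens.opensRange_ι W).ge
  have h2 := W.ι.isIso_app W h1
  have e : ⊤ ≤ W.ι ⁻¹ᵁ W := by rw [Scheme.Opens.ι_preimage_self]
  have h3 : W.ι.appLE W ⊤ e = W.ι.app W ≫ (W : Scheme.{u}).presheaf.map (homOfLE e).op := rfl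
  have h4 : IsIso (homOfLE e).op := by
    have : IsIso (homOfLE e) := ⟨homOfLE (by rw [Scheme.Opens.ι_preimage_self]), rfl, rfl⟩
    infer_instance
  have h5 : IsIso (W.ι.appLE W ⊤ e) := by
    rw [h3]
    infer_instance
  exact ConcreteCategory.bijective_of_isIso (W.ι.appLE W ⊤ e)

/-- A morphism to `Z` with values in `W`. -/
noncomputable def toOpn {T : Over (B0 k)} (c : T ⟶ Z) (W : Z.left.Opens) (h : ⊤ ≤ c.left ⁻¹ᵁ W) : T ⟶ opn Z W :=
  Over.homMk (IsOpenImmersion.lift W.ι c.left (by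
    rw [Scheme.Opens.range_ι]
    rintro _ ⟨x, rfl⟩
    exact h (show x ∈ (⊤ : T.left.Opens) from trivial))) (by
      show IsOpenImmersion.lift W.ι c.left _ ≫ W.ι ≫ Z.hom = T.hom
      rw [IsOpenImmersion.lift_fac_assoc]
      exact Over.w c)

theorem toOpn_opi {T : Over (B0 k)} (c : T ⟶ Z) (W : Z.left.Opens) (h : ⊤ ≤ c.left ⁻¹ᵁ W) :
    toOpn c W h ≫ opi Z W = c := by
  refine Over.OverMorphism.ext ?_
  show IsOpenImmersion.lift W.ι c.left _ ≫ W.ι = c.left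
  rw [IsOpenImmersion.lift_fac]

theorem opi_mono {T : Over (B0 k)} {W : Z.left.Opens} {c c' : T ⟶ opn Z W} (h : c ≫ opi Z W = c' ≫ opi Z W) :
    c = c' := by
  refine Over.OverMorphism.ext ?_
  rw [← cancel_mono W.ι]
  exact congrArg (fun q => q.left) h

theorem top_apA {T : Over (B0 k)} (c : T ⟶ Z) (W : Z.left.Opens) (c' : T ⟶ opn Z W) (hc : c' ≫ opi Z W = c)
    (e : ⊤ ≤ c.left ⁻¹ᵁ W) (x : Γ(Z.left, W)) :
    apA c W ⊤ e x = c'.left.appTop (top W x) := by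
  subst hc
  have e1 : ⊤ ≤ (opi Z W).left ⁻¹ᵁ W := by
    show ⊤ ≤ W.ι ⁻¹ᵁ W
    rw [Scheme.Opens.ι_preimage_self]
  rw [← apA_comp (opi Z W) c' W ⊤ ⊤ e1 le_top e x, apA_apply]
  have h : c'.left.appTop = c'.left.appLE ⊤ ⊤ le_top := by
    rw [Scheme.Hom.appTop, Scheme.Hom.app_eq_appLE]
    rfl
  rw [h]
  rfl

end Opn

section Core

variable {T T₂ : Over (B0 k)} {F : (PicF.XT (st k X) T).Modules} {L R : X.Modules} {n : ℕ}
  {e : Fin n → Sec (Tw F L)} {f : Fin n → Sec (Tw F R)}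

theorem det_aut [IsAlgClosed k] [IsIntegral (PicF.XT (st k X) (SpecO k k))]
    [IsProper (PicF.XTproj (st k X) (SpecO k k))] (hdim : topologicalKrullDim (PicF.XT (st k X) (SpecO k k)) = 1)
    {r : ℕ} (γ : SpecO k k ⟶ T)
    (hss : SSB r (Spec.map (CommRingCat.ofHom (algebraMap k k))) (pl k X γ F))
    (hok : PtOK (Spec.map (CommRingCat.ofHom (algebraMap k k))) L R (pl k X γ F))
    (he : UBTw F L e) (hf : UBTw F R f) (ψ : pl k X γ F ⟶ pl k X γ F)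
    (A B : Matrix (Fin n) (Fin n) Γ((SpecO k k).left, ⊤))
    (hA : ∀ j, smap (lmap ψ L) (BcTw γ F L (e j)) = ∑ i, A i j • BcTw γ F L (e i))
    (hB : ∀ j, smap (lmap ψ R) (BcTw γ F R (f j)) = ∑ i, B i j • BcTw γ F R (f i)) : A.det = B.det :=
  det_pt (Spec.map (CommRingCat.ofHom (algebraMap k k))) hdim hok hss (he γ) (hf γ) ψ A B hA hB

/-- The main computation. -/
theorem core [IsAlgClosed k] [IsIntegral (PicF.XT (st k X) (SpecO k k))]
    [IsProper (PicF.XTproj (st k X) (SpecO k k))] (hdim : topologicalKrullDim (PicF.XT (st k X) (SpecO k k)) = 1)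
    {r : ℕ} (he : UBTw F L e) (hf : UBTw F R f) (s : L ⟶ R) (D : Matrix (Fin n) (Fin n) Γ(T.left, ⊤))
    (hD : ∀ j, smap (rmap F s) (e j) = ∑ i, D i j • f i) (α β : T₂ ⟶ T) (φ : pl k X β F ≅ pl k X α F)
    (t : SpecO k k ⟶ T₂) (γ : SpecO k k ⟶ T) (hα : t ≫ α = γ) (hβ : t ≫ β = γ)
    (hss : SSB r (Spec.map (CommRingCat.ofHom (algebraMap k k))) (pl k X γ F))
    (hok : PtOK (Spec.map (CommRingCat.ofHom (algebraMap k k))) L R (pl k X γ F)) :
    ∃ u : Γ(T₂.left, ⊤), β.left.appTop D.det = u * α.left.appTop D.det ∧ t.left.appTop u = 1 := by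
  obtain ⟨a, ha⟩ := he.exists_mat α β φ.hom
  obtain ⟨b, hb⟩ := hf.exists_mat α β φ.hom
  have hrel := rel he hf s D hD α β φ a b ha hb
  obtain ⟨v, hv⟩ := hf.isUnit_det α β φ b hb
  obtain ⟨ψ, hψ⟩ := exists_aut F α β φ t γ hα hβ
  have hdet : (a.map t.left.appTop).det = (b.map t.left.appTop).det :=
    det_aut hdim γ hss hok he hf ψ.hom (a.map t.left.appTop) (b.map t.left.appTop) (hψ L e a ha) (hψ R f b hb)
  have hdet' : t.left.appTop a.det = t.left.appTop b.det := by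
    have h1 := RingHom.map_det t.left.appTop.hom a
    have h2 := RingHom.map_det t.left.appTop.hom b
    exact h1.trans (hdet.trans h2.symm)
  refine ⟨↑v⁻¹ * a.det, ?_, ?_⟩
  · have h1 : α.left.appTop D.det * a.det = b.det * β.left.appTop D.det := by
      have h2 := congrArg Matrix.det hrel
      rw [Matrix.det_mul, Matrix.det_mul] at h2
      have h3 := RingHom.map_det α.left.appTop.hom D
      have h4 := RingHom.map_det β.left.appTop.hom D
      calc _ = (D.map α.left.appTop).det * a.det := congrArg (· * a.det) h3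
        _ = b.det * (D.map β.left.appTop).det := h2
        _ = _ := congrArg (b.det * ·) h4.symm
    have h5 : ↑v⁻¹ * b.det = 1 := by rw [← hv, Units.inv_mul]
    calc β.left.appTop D.det = (↑v⁻¹ * b.det) * β.left.appTop D.det := by rw [h5, one_mul]
      _ = ↑v⁻¹ * (b.det * β.left.appTop D.det) := mul_assoc _ _ _
      _ = _ := by rw [← h1]; ring
  · have h2 : IsUnit (t.left.appTop b.det) := by
      rw [← hv]
      exact v.isUnit.map t.left.appTop.hom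
    have h3 : t.left.appTop (↑v⁻¹ * a.det) * t.left.appTop b.det = 1 * t.left.appTop b.det := by
      rw [one_mul, ← map_mul, ← hdet']
      congr 1
      rw [← hv, mul_right_comm, Units.inv_mul, one_mul]
    exact h2.mul_right_cancel h3

end Core

section Main

variable {P : ∀ T : Over (B0 k), (ModFun.modProb (st k X)).Fam T → Prop} {A : AtlasC k X P}

theorem exists_phi (σ : A.Z ⟶ A.Z) (hσ : Nonempty (pl k X σ A.E ≅ A.E)) {T₁ T₂ : Over (B0 k)} (i : T₁ ⟶ A.Z)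
    (i' : T₂ ⟶ A.Z) (α β : T₂ ⟶ T₁) (hα : α ≫ i = i') (hβ : β ≫ i = i' ≫ σ) :
    Nonempty (pl k X β (pl k X i A.E) ≅ pl k X α (pl k X i A.E)) := by
  obtain ⟨ε₁, -⟩ := exists_comp i β _ hβ A.E
  obtain ⟨ε₂, -⟩ := exists_comp σ i' _ rfl A.E
  obtain ⟨ε₃⟩ := hσ
  obtain ⟨ε₄, -⟩ := exists_comp i α _ hα A.E
  exact ⟨ε₁ ≪≫ ε₂.symm ≪≫ K54.PullP.pmIso (isPB_pl i') ε₃ ≪≫ ε₄.symm⟩

theorem exists_sg_iso (g : Gr k A.b A.a) : Nonempty (pl k X (sg (toAct A) g) A.E ≅ A.E) := by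
  obtain ⟨ε₃⟩ := A.act_E (matT A.Z g.1) (matT A.Z g.2) (𝟙 A.Z)
  exact ⟨ε₃ ≪≫ PlId A.E⟩

/-- Near a fixed point, `g^* det D = u det D` with `u(t) = 1`. -/
theorem local_of_data [IsAlgClosed k] [IsIntegral (PicF.XT (st k X) (SpecO k k))]
    [IsProper (PicF.XTproj (st k X) (SpecO k k))] (hdim : topologicalKrullDim (PicF.XT (st k X) (SpecO k k)) = 1)
    {L R : X.Modules} (s : L ⟶ R) {r : ℕ} (t : SpecO k k ⟶ A.Z) (g : Gr k A.b A.a) (htσ : t ≫ sg (toAct A) g = t)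
    (hpt : ∀ G : (PicF.XT (st k X) (SpecO k k)).Modules, Nonempty (G ≅ pl k X t A.E) →
      SSB r (Spec.map (CommRingCat.ofHom (algebraMap k k))) G ∧
        PtOK (Spec.map (CommRingCat.ofHom (algebraMap k k))) L R G)
    (W : A.Z.left.Opens) (hW : ⊤ ≤ t.left ⁻¹ᵁ W) {n : ℕ}
    (e : Fin n → Sec (Tw (pl k X (opi A.Z W) A.E) L)) (f : Fin n → Sec (Tw (pl k X (opi A.Z W) A.E) R))
    (he : UBTw (pl k X (opi A.Z W) A.E) L e) (hf : UBTw (pl k X (opi A.Z W) A.E) R f)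
    (D : Matrix (Fin n) (Fin n) Γ((opn A.Z W).left, ⊤))
    (hD : ∀ j, smap (rmap (pl k X (opi A.Z W) A.E) s) (e j) = ∑ i, D i j • f i)
    (f₀ : Γ(A.Z.left, W)) (hf₀ : top W f₀ = D.det) :
    ∃ (W' : A.Z.left.Opens) (e₁ : W' ≤ W) (e' : W' ≤ (sg (toAct A) g).left ⁻¹ᵁ W) (et : ⊤ ≤ t.left ⁻¹ᵁ W')
      (u : Γ(A.Z.left, W')), apA (sg (toAct A) g) W W' e' f₀ = u * rs e₁ f₀ ∧ vl t et u = 1 := by
  let σ := sg (toAct A) g
  let W' : A.Z.left.Opens := W ⊓ σ.left ⁻¹ᵁ W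
  have e₁ : W' ≤ W := inf_le_left
  have e' : W' ≤ σ.left ⁻¹ᵁ W := inf_le_right
  have et : ⊤ ≤ t.left ⁻¹ᵁ W' := by
    intro x _
    refine ⟨hW trivial, ?_⟩
    have h1 : σ.left (t.left x) = t.left x := congrArg (fun q : SpecO k k ⟶ A.Z => q.left x) htσ
    show σ.left (t.left x) ∈ W
    rw [h1]
    exact hW (show x ∈ (⊤ : (SpecO k k).left.Opens) from trivial)
  -- the two maps
  let T₂ := opn A.Z W'
  have hα : ⊤ ≤ (opi A.Z W').left ⁻¹ᵁ W := fun x _ => e₁ (show W'.ι x ∈ W' from x.2)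
  have hβ : ⊤ ≤ (opi A.Z W' ≫ σ).left ⁻¹ᵁ W := fun x _ => e' (show W'.ι x ∈ W' from x.2)
  let α : T₂ ⟶ opn A.Z W := toOpn (opi A.Z W') W hα
  let β : T₂ ⟶ opn A.Z W := toOpn (opi A.Z W' ≫ σ) W hβ
  have hαi : α ≫ opi A.Z W = opi A.Z W' := toOpn_opi _ _ _
  have hβi : β ≫ opi A.Z W = opi A.Z W' ≫ σ := toOpn_opi _ _ _
  let t₂ : SpecO k k ⟶ T₂ := toOpn t W' et
  have ht₂ : t₂ ≫ opi A.Z W' = t := toOpn_opi _ _ _
  let γ : SpecO k k ⟶ opn A.Z W := t₂ ≫ α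
  have hγβ : t₂ ≫ β = γ := by
    apply opi_mono
    rw [Category.assoc, Category.assoc, hβi, hαi, ← Category.assoc, ht₂, htσ]
  have hγi : γ ≫ opi A.Z W = t := by rw [Category.assoc, hαi, ht₂]
  obtain ⟨φ⟩ := exists_phi σ (exists_sg_iso g) (opi A.Z W) (opi A.Z W') α β hαi hβi
  obtain ⟨ε₆, -⟩ := exists_comp (opi A.Z W) γ t hγi A.E
  obtain ⟨h1, h2⟩ := hpt _ ⟨ε₆⟩
  obtain ⟨u₁, hrel, hu₁⟩ := core hdim he hf s D hD α β φ t₂ γ rfl hγβ h1 h2
  obtain ⟨u, hu⟩ := (bijective_top W').2 u₁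
  refine ⟨W', e₁, e', et, u, ?_, ?_⟩
  · apply (bijective_top W').1
    rw [map_mul, hu]
    have e2 : ⊤ ≤ (opi A.Z W').left ⁻¹ᵁ W' := by
      show ⊤ ≤ W'.ι ⁻¹ᵁ W'
      rw [Scheme.Opens.ι_preimage_self]
    have h1 : top W' (apA σ W W' e' f₀) = β.left.appTop D.det := by
      rw [← hf₀, ← top_apA (opi A.Z W' ≫ σ) W β hβi hβ f₀]
      exact apA_comp σ (opi A.Z W') W W' ⊤ e' e2 hβ f₀
    have h2 : top W' (rs e₁ f₀) = α.left.appTop D.det := by
      rw [← hf₀, ← top_apA (opi A.Z W') W α hαi hα f₀]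
      have e3 : ⊤ ≤ (opi A.Z W' ≫ 𝟙 A.Z).left ⁻¹ᵁ W := by rw [Category.comp_id]; exact hα
      refine (apA_comp (𝟙 A.Z) (opi A.Z W') W W' ⊤ e₁ e2 e3 f₀).trans ?_
      exact apA_congr (Category.comp_id _) _ _ _ _ _
    rw [h2]
    exact h1.trans hrel
  · show (Scheme.ΓSpecIso (CommRingCat.of k)).hom.hom (apA t W' ⊤ et u) = 1
    rw [top_apA t W' t₂ ht₂ et u, hu, hu₁, map_one]

end Main

end Groth.Agent.BunMod.K356.FixPt
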