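import Groth.Agent.BunMod.K54.FamSec
import Mathlib.LinearAlgebra.Matrix.Determinant.Basic
import Mathlib.LinearAlgebra.Matrix.ToLin

/-!
# Two families of frames related by an isomorphism

`F` a family over `T`, `e`, `f` universal bases of the sections of `F ⊗ L`, `F ⊗ Q`, `D` the matrix of the map induced by
`s : L ⟶ Q`.  If `α, β : T₂ ⟶ T` and `φ : β^* F ≅ α^* F` then `α^* D · a = b · β^* D` for the invertible matrices `a`, `b`
of `φ` in the bases `α^* e`, `β^* e` and `α^* f`, `β^* f` (`exists_rel`), and at a point `t` of `T₂` with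
`t ≫ α = t ≫ β` the matrices `t^* a`, `t^* b` are those of an automorphism of the fibre (`rel_pt`).
-/

set_option autoImplicit false

universe u

open CategoryTheory CategoryTheory.Limits AlgebraicGeometry TensorProduct

namespace Groth.Agent.BunMod.K356.FixRel

open K140.BM K54.Theta K54.FamSec K54.GenPull

section Alg

variable {R₁ R₂ : Type*} [CommRing R₁] [CommRing R₂] {M₁ N₁ M N M' N' : Type*}
  [AddCommGroup M₁] [Module R₁ M₁] [AddCommGroup N₁] [Module R₁ N₁]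
  [AddCommGroup M] [Module R₂ M] [AddCommGroup N] [Module R₂ N] [AddCommGroup M'] [Module R₂ M']
  [AddCommGroup N'] [Module R₂ N']

theorem alg_rel (α β : R₁ → R₂) (bα : M₁ →+ M) (cα : N₁ →+ N) (bβ : M₁ →+ M') (cβ : N₁ →+ N')
    (hcα : ∀ a x, cα (a • x) = α a • cα x) (hcβ : ∀ a x, cβ (a • x) = β a • cβ x)
    (δ₁ : M₁ →ₗ[R₁] N₁) (δ : M →ₗ[R₂] N) (δ' : M' →ₗ[R₂] N') (h : ∀ x, cα (δ₁ x) = δ (bα x))
    (h' : ∀ x, cβ (δ₁ x) = δ' (bβ x)) (φ : M' →ₗ[R₂] M) (ψ : N' →ₗ[R₂] N) (hφψ : ∀ x, δ (φ x) = ψ (δ' x))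
    {n : ℕ} (e : Fin n → M₁) (f : Fin n → N₁)
    (hf : ∀ c c' : Fin n → R₂, ∑ i, c i • cα (f i) = ∑ i, c' i • cα (f i) → c = c')
    (D : Matrix (Fin n) (Fin n) R₁) (hD : ∀ j, δ₁ (e j) = ∑ i, D i j • f i) (a b : Matrix (Fin n) (Fin n) R₂)
    (ha : ∀ j, φ (bβ (e j)) = ∑ i, a i j • bα (e i)) (hb : ∀ j, ψ (cβ (f j)) = ∑ i, b i j • cα (f i)) :
    D.map α * a = b * D.map β := by
  have key : ∀ j, (fun l => (D.map α * a) l j) = fun l => (b * D.map β) l j := by
    intro j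
    apply hf
    have h1 : δ (φ (bβ (e j))) = ∑ l, (D.map α * a) l j • cα (f l) := by
      rw [ha, map_sum]
      simp only [map_smul, ← h, hD, map_sum, hcα, Finset.smul_sum, smul_smul, Matrix.mul_apply, Matrix.map_apply,
        Finset.sum_smul]
      rw [Finset.sum_comm]
      exact Finset.sum_congr rfl fun l _ => Finset.sum_congr rfl fun i _ => by rw [mul_comm]
    have h2 : ψ (δ' (bβ (e j))) = ∑ l, (b * D.map β) l j • cα (f l) := by
      rw [← h', hD, map_sum, map_sum]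
      simp only [map_smul, hcβ, hb, Finset.smul_sum, smul_smul, Matrix.mul_apply, Matrix.map_apply, Finset.sum_smul]
      rw [Finset.sum_comm]
      exact Finset.sum_congr rfl fun l _ => Finset.sum_congr rfl fun i _ => by rw [mul_comm]
    rw [← h1, ← h2, hφψ]
  exact Matrix.ext fun l j => congrFun (key j) l

/-- The matrices of inverse maps are inverse. -/
theorem mul_eq_one (φ : M' →ₗ[R₂] M) (ψ : M →ₗ[R₂] M') (hψφ : ∀ x, ψ (φ x) = x) {n : ℕ} (e : Fin n → M)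
    (e' : Fin n → M')
    (he' : ∀ c c' : Fin n → R₂, ∑ i, c i • e' i = ∑ i, c' i • e' i → c = c') (a a' : Matrix (Fin n) (Fin n) R₂)
    (ha : ∀ j, φ (e' j) = ∑ i, a i j • e i) (ha' : ∀ j, ψ (e j) = ∑ i, a' i j • e' i) : a' * a = 1 := by
  have key : ∀ j, (fun l => (a' * a) l j) = fun l => (1 : Matrix (Fin n) (Fin n) R₂) l j := by
    intro j
    apply he'
    have h1 : ψ (φ (e' j)) = ∑ l, (a' * a) l j • e' l := by
      rw [ha, map_sum]
      simp only [map_smul, ha', Finset.smul_sum, smul_smul, Matrix.mul_apply, Finset.sum_smul]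
      rw [Finset.sum_comm]
      exact Finset.sum_congr rfl fun l _ => Finset.sum_congr rfl fun i _ => by rw [mul_comm]
    rw [← h1, hψφ]
    simp [Matrix.one_apply]
  exact Matrix.ext fun l j => congrFun (key j) l

end Alg

variable {k : Type u} [Field k] {X : Scheme.{u}} [X.Over (Spec (CommRingCat.of k))]

/-- A universal basis of the sections of `F ⊗ L`. -/
def UBTw {T : Over (B0 k)} (F : (PicF.XT (st k X) T).Modules) (L : X.Modules) {n : ℕ}
    (e : Fin n → Sec (Tw F L)) : Prop :=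
  ∀ {T' : Over (B0 k)} (g : T' ⟶ T) (x : Sec (Tw (pl k X g F) L)),
    ∃! c : Fin n → Γ(T'.left, ⊤), x = ∑ i, c i • BcTw g F L (e i)

section

variable {T T₂ : Over (B0 k)} {F : (PicF.XT (st k X) T).Modules} {L Q : X.Modules} {n : ℕ}
  {e : Fin n → Sec (Tw F L)} {f : Fin n → Sec (Tw F Q)}

theorem UBTw.inj (he : UBTw F L e) (α : T₂ ⟶ T) (c c' : Fin n → Γ(T₂.left, ⊤))
    (h : ∑ i, c i • BcTw α F L (e i) = ∑ i, c' i • BcTw α F L (e i)) : c = c' :=
  (he α (∑ i, c i • BcTw α F L (e i))).unique rfl h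

/-- The matrix of an isomorphism. -/
theorem UBTw.exists_mat (he : UBTw F L e) (α β : T₂ ⟶ T) (φ : pl k X β F ⟶ pl k X α F) :
    ∃ a : Matrix (Fin n) (Fin n) Γ(T₂.left, ⊤),
      ∀ j, smap (lmap φ L) (BcTw β F L (e j)) = ∑ i, a i j • BcTw α F L (e i) := by
  have h := fun j => (he α (smap (lmap φ L) (BcTw β F L (e j)))).exists
  choose c hc using h
  exact ⟨Matrix.of fun i j => c j i, fun j => hc j⟩

theorem UBTw.isUnit_det (he : UBTw F L e) (α β : T₂ ⟶ T) (φ : pl k X β F ≅ pl k X α F)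
    (a : Matrix (Fin n) (Fin n) Γ(T₂.left, ⊤))
    (ha : ∀ j, smap (lmap φ.hom L) (BcTw β F L (e j)) = ∑ i, a i j • BcTw α F L (e i)) : IsUnit a.det := by
  obtain ⟨a', ha'⟩ := he.exists_mat β α φ.inv
  have h1 : ∀ x, smap (lmap φ.inv L) (smap (lmap φ.hom L) x) = x := fun x => by
    rw [← gsmap_comp, ← K54.PullP.gl_comp, φ.hom_inv_id, K54.PullP.gl_id, gsmap_id]
  have h2 : a' * a = 1 := mul_eq_one (smap (lmap φ.hom L)) (smap (lmap φ.inv L)) h1
    (fun i => BcTw α F L (e i)) (fun i => BcTw β F L (e i)) (he.inj β) a a' ha ha'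
  have h3 := congrArg Matrix.det h2
  rw [Matrix.det_mul, Matrix.det_one] at h3
  exact IsUnit.of_mul_eq_one_right _ h3

/-- The relation between the matrices. -/
theorem rel (he : UBTw F L e) (hf : UBTw F Q f) (s : L ⟶ Q) (D : Matrix (Fin n) (Fin n) Γ(T.left, ⊤))
    (hD : ∀ j, smap (rmap F s) (e j) = ∑ i, D i j • f i) (α β : T₂ ⟶ T) (φ : pl k X β F ≅ pl k X α F)
    (a b : Matrix (Fin n) (Fin n) Γ(T₂.left, ⊤))
    (ha : ∀ j, smap (lmap φ.hom L) (BcTw β F L (e j)) = ∑ i, a i j • BcTw α F L (e i))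
    (hb : ∀ j, smap (lmap φ.hom Q) (BcTw β F Q (f j)) = ∑ i, b i j • BcTw α F Q (f i)) :
    D.map α.left.appTop * a = b * D.map β.left.appTop :=
  alg_rel α.left.appTop β.left.appTop (BcTw α F L) (BcTw α F Q) (BcTw β F L) (BcTw β F Q)
    (fun a x => bcTw_smul α F Q a x) (fun a x => bcTw_smul β F Q a x) (smap (rmap F s))
    (smap (rmap (pl k X α F) s)) (smap (rmap (pl k X β F) s)) (fun x => bcTw_rmap α F s x)
    (fun x => bcTw_rmap β F s x) (smap (lmap φ.hom L)) (smap (lmap φ.hom Q))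
    (fun x => by rw [← gsmap_comp, ← gsmap_comp, K54.PullP.gl_gr]) e f (hf.inj α) D hD a b ha hb

end

/-! ### At a fixed point -/

/-- The base change isomorphism of a composition. -/
theorem exists_comp {T T' T'' : Over (B0 k)} (g : T' ⟶ T) (g' : T'' ⟶ T') (γ : T'' ⟶ T) (h : g' ≫ g = γ)
    (F : (PicF.XT (st k X) T).Modules) : ∃ ε : pl k X g' (pl k X g F) ≅ pl k X γ F,
      ∀ (L : X.Modules) (x : Sec (Tw F L)),
        smap (lmap ε.hom L) (BcTw g' (pl k X g F) L (BcTw g F L x)) = BcTw γ F L x := by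
  subst h
  exact ⟨PlComp g g' F, fun L x => bcTw_comp g g' F L x⟩

/-- The automorphism of the fibre at a fixed point. -/
theorem exists_aut {T T₂ T₀ : Over (B0 k)} (F : (PicF.XT (st k X) T).Modules) (α β : T₂ ⟶ T)
    (φ : pl k X β F ≅ pl k X α F) (t : T₀ ⟶ T₂) (γ : T₀ ⟶ T) (hα : t ≫ α = γ) (hβ : t ≫ β = γ) :
    ∃ ψ : pl k X γ F ≅ pl k X γ F, ∀ (L : X.Modules) {n : ℕ} (e : Fin n → Sec (Tw F L))
      (a : Matrix (Fin n) (Fin n) Γ(T₂.left, ⊤))
      (_ : ∀ j, smap (lmap φ.hom L) (BcTw β F L (e j)) = ∑ i, a i j • BcTw α F L (e i)) (j : Fin n),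
      smap (lmap ψ.hom L) (BcTw γ F L (e j)) = ∑ i, t.left.appTop (a i j) • BcTw γ F L (e i) := by
  obtain ⟨εα, hεα⟩ := exists_comp α t γ hα F
  obtain ⟨εβ, hεβ⟩ := exists_comp β t γ hβ F
  refine ⟨εβ.symm ≪≫ K54.PullP.pmIso (isPB_pl t) φ ≪≫ εα, fun L n e a ha j => ?_⟩
  have h1 : smap (lmap (εβ.symm ≪≫ K54.PullP.pmIso (isPB_pl t) φ ≪≫ εα).hom L) (BcTw γ F L (e j)) =
      smap (lmap εα.hom L) (smap (lmap (plm t φ.hom) L) (BcTw t (pl k X β F) L (BcTw β F L (e j)))) := by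
    rw [← hεβ, ← gsmap_comp, ← gsmap_comp, ← K54.PullP.gl_comp, ← K54.PullP.gl_comp, Iso.trans_hom, Iso.trans_hom,
      Iso.symm_hom, Iso.hom_inv_id_assoc, K54.PullP.pmIso_hom]
  rw [h1, ← bcTw_lmap, ha, map_sum, map_sum]
  refine Finset.sum_congr rfl fun i _ => ?_
  rw [bcTw_smul, map_smul, hεα]

end Groth.Agent.BunMod.K356.FixRel
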