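import Groth.Agent.BunMod.K356.Orbit
import Mathlib.RingTheory.RootsOfUnity.AlgebraicallyClosed

/-!
# Kempf's descent lemma

`C` is an algebra of finite type over the algebraically closed field `k` of characteristic zero with an algebraic
action of a group and a Reynolds operator, `I` a stable ideal which is invertible at the point `z`; the orbit of `z` is
closed and the stabiliser of `z` acts trivially on `I / m_z I`. Then there are invariants `a ∈ I` and `h` with
`h(z) ≠ 0` and `h I ⊆ a C`.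

The proof uses the Rees algebra `R = ⊕ Iⁿ tⁿ`: the points of `Spec R` over `z` are `y λ`, `λ ∈ k`, and for `λ ≠ 0`
their orbits are closed and disjoint, so they are separated by invariants.
-/

set_option autoImplicit false

universe u

open Polynomial

namespace Groth.Agent.BunMod.K356.Kempf

open Groth.Agent.BunMod.K356.Orbit

variable {k : Type u} [Field k] {C : Type u} [CommRing C] [Algebra k C]

/-- The Rees algebra. -/
noncomputable def Rees (k : Type u) [Field k] {C : Type u} [CommRing C] [Algebra k C] (I : Ideal C) : Subalgebra k C[X] :=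
  (reesAlgebra I).restrictScalars k

theorem mem_rees {I : Ideal C} {F : C[X]} : F ∈ Rees k I ↔ ∀ n, F.coeff n ∈ I ^ n := mem_reesAlgebra_iff I F

theorem finiteType_rees [Algebra.FiniteType k C] (I : Ideal C) : Algebra.FiniteType k (Rees k I) := by
  haveI : IsNoetherianRing C := Algebra.FiniteType.isNoetherianRing k C
  haveI : Algebra.FiniteType C (reesAlgebra I) := inferInstance
  exact Algebra.FiniteType.trans (R := k) (S := C) (A := reesAlgebra I) inferInstance inferInstance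

/-- Monomials of the Rees algebra. -/
noncomputable def mon (k : Type u) [Field k] {C : Type u} [CommRing C] [Algebra k C] (I : Ideal C) (n : ℕ) (x : C)
    (hx : x ∈ I ^ n) : Rees k I :=
  ⟨monomial n x, reesAlgebra.monomial_mem.2 hx⟩

theorem mon_mul {I : Ideal C} {m n : ℕ} {x y : C} (hx : x ∈ I ^ m) (hy : y ∈ I ^ n) :
    mon k I m x hx * mon k I n y hy = mon k I (m + n) (x * y) (pow_add I m n ▸ Ideal.mul_mem_mul hx hy) :=
  Subtype.ext (by
    show monomial m x * monomial n y = monomial (m + n) (x * y)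
    rw [monomial_mul_monomial])

/-- Constants. -/
noncomputable def cst (k : Type u) [Field k] {C : Type u} [CommRing C] [Algebra k C] (I : Ideal C) : C →ₐ[k] Rees k I where
  toFun x := ⟨Polynomial.C x, mem_rees.2 fun n => by
    rw [coeff_C]; split_ifs with h
    · subst h; simp
    · exact zero_mem _⟩
  map_one' := Subtype.ext (map_one _)
  map_mul' a b := Subtype.ext (map_mul _ a b)
  map_zero' := Subtype.ext (map_zero _)
  map_add' a b := Subtype.ext (map_add _ a b)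
  commutes' c := Subtype.ext rfl

/-- Every element is the sum of its monomials. -/
theorem eq_sum {I : Ideal C} (F : Rees k I) :
    F = ∑ n ∈ Finset.range (F.1.natDegree + 1), mon k I n (F.1.coeff n) (mem_rees.1 F.2 n) := by
  apply Subtype.ext
  rw [AddSubmonoidClass.coe_finsetSum]
  exact F.1.as_sum_range

variable {G : Type u} (τ : G → C →ₐ[k] C)

/-- The action on the Rees algebra. -/
noncomputable def τR {I : Ideal C} (hI : ∀ g, ∀ x ∈ I, τ g x ∈ I) (g : G) : Rees k I →ₐ[k] Rees k I :=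
  ((mapAlgHom (τ g)).comp (Rees k I).val).codRestrict (Rees k I) fun F => mem_rees.2 fun n => by
    show ((F.1).map (τ g : C →+* C)).coeff n ∈ I ^ n
    rw [coeff_map]
    have h1 : I.map (τ g : C →+* C) ≤ I := by
      rw [Ideal.map_le_iff_le_comap]
      exact fun x hx => hI g x hx
    have h2 : (I ^ n).map (τ g : C →+* C) ≤ I ^ n := by
      rw [Ideal.map_pow]
      exact Ideal.pow_right_mono h1 n
    exact h2 (Ideal.mem_map_of_mem _ (mem_rees.1 F.2 n))

variable {τ}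

theorem coeff_τR {I : Ideal C} (hI : ∀ g, ∀ x ∈ I, τ g x ∈ I) (g : G) (F : Rees k I) (n : ℕ) :
    (τR τ hI g F).1.coeff n = τ g (F.1.coeff n) := by
  show ((F.1).map (τ g : C →+* C)).coeff n = _
  rw [coeff_map]
  rfl

theorem ext_coeff {I : Ideal C} {F F' : Rees k I} (h : ∀ n, F.1.coeff n = F'.1.coeff n) : F = F' :=
  Subtype.ext (Polynomial.ext h)

theorem isAct_τR {I : Ideal C} (hI : ∀ g, ∀ x ∈ I, τ g x ∈ I) (hτ : IsAct τ) : IsAct (τR τ hI) where
  one := by
    obtain ⟨e, he⟩ := hτ.one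
    exact ⟨e, fun F => ext_coeff fun n => by rw [coeff_τR, he]⟩
  mul g h := by
    obtain ⟨m, hm⟩ := hτ.mul g h
    exact ⟨m, fun F => ext_coeff fun n => by rw [coeff_τR, coeff_τR, coeff_τR, hm]⟩
  inv g := by
    obtain ⟨g', h1, h2⟩ := hτ.inv g
    exact ⟨g', fun F => ext_coeff fun n => by rw [coeff_τR, coeff_τR, h1],
      fun F => ext_coeff fun n => by rw [coeff_τR, coeff_τR, h2]⟩

theorem isAlg_τR {I : Ideal C} (hI : ∀ g, ∀ x ∈ I, τ g x ∈ I) {H : Subalgebra k (G → k)} (hA : IsAlg τ H) :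
    IsAlg (τR τ hI) H := by
  intro l F
  obtain ⟨l', hl'⟩ := LinearMap.exists_extend (p := Subalgebra.toSubmodule (Rees k I)) l
  have h1 : (fun g => l (τR τ hI g F)) =
      ∑ n ∈ Finset.range (F.1.natDegree + 1), fun g => (l' ∘ₗ (monomial n).restrictScalars k) (τ g (F.1.coeff n)) := by
    funext g
    have h2 : l (τR τ hI g F) = l' (τR τ hI g F).1 := by
      rw [← hl']
      rfl
    rw [h2, Finset.sum_apply, show (τR τ hI g F).1 = ∑ n ∈ Finset.range (F.1.natDegree + 1),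
      monomial n (τ g (F.1.coeff n)) from ?_, map_sum]
    · rfl
    · ext m
      rw [coeff_τR, finsetSum_coeff]
      simp only [coeff_monomial]
      rw [Finset.sum_ite_eq' (Finset.range (F.1.natDegree + 1)) m]
      split_ifs with hm
      · rfl
      · rw [Finset.mem_range, not_lt, Nat.succ_le_iff] at hm
        rw [coeff_eq_zero_of_natDegree_lt hm, map_zero]
  rw [h1]
  exact sum_mem fun n _ => hA _ _

/-- Scaling. -/
noncomputable def σ {I : Ideal C} (c : k) : Rees k I →ₐ[k] Rees k I :=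
  (((aeval (Polynomial.C (algebraMap k C c) * X) : C[X] →ₐ[C] C[X]).restrictScalars k).comp
    (Rees k I).val).codRestrict (Rees k I) fun F => mem_rees.2 fun n => by
      show (aeval (Polynomial.C (algebraMap k C c) * X) F.1).coeff n ∈ I ^ n
      rw [← comp_eq_aeval, comp_C_mul_X_coeff]
      exact Ideal.mul_mem_right _ _ (mem_rees.1 F.2 n)

theorem coeff_σ {I : Ideal C} (c : k) (F : Rees k I) (n : ℕ) : (σ c F).1.coeff n = c ^ n • F.1.coeff n := by
  show (aeval (Polynomial.C (algebraMap k C c) * X) F.1).coeff n = _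
  rw [← comp_eq_aeval, comp_C_mul_X_coeff, Algebra.smul_def, map_pow, mul_comm]

theorem σ_τR {I : Ideal C} (hI : ∀ g, ∀ x ∈ I, τ g x ∈ I) (c : k) (g : G) (F : Rees k I) :
    σ c (τR τ hI g F) = τR τ hI g (σ c F) :=
  ext_coeff fun n => by rw [coeff_σ, coeff_τR, coeff_τR, coeff_σ, map_smul]

theorem σ_σ {I : Ideal C} (c d : k) (F : Rees k I) : σ c (σ d F) = σ (c * d) F :=
  ext_coeff fun n => by rw [coeff_σ, coeff_σ, coeff_σ, smul_smul, mul_pow]

theorem σ_one {I : Ideal C} (F : Rees k I) : σ (1 : k) F = F :=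
  ext_coeff fun n => by rw [coeff_σ, one_pow, one_smul]

theorem σ_mon {I : Ideal C} (c : k) (n : ℕ) (x : C) (hx : x ∈ I ^ n) : σ c (mon k I n x hx) = c ^ n • mon k I n x hx :=
  ext_coeff fun m => by
    rw [coeff_σ]
    show c ^ m • (monomial n x).coeff m = (c ^ n • monomial n x).coeff m
    rw [coeff_smul, coeff_monomial]
    split_ifs with h
    · rw [h]
    · rw [smul_zero, smul_zero]

theorem σ_cst {I : Ideal C} (c : k) (x : C) : σ c (cst k I x) = cst k I x :=
  ext_coeff fun m => by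
    rw [coeff_σ]
    show c ^ m • (Polynomial.C x).coeff m = (Polynomial.C x).coeff m
    rw [coeff_C]
    split_ifs with h
    · rw [h, pow_zero, one_smul]
    · rw [smul_zero]

theorem τR_mon {I : Ideal C} (hI : ∀ g, ∀ x ∈ I, τ g x ∈ I) (g : G) (n : ℕ) (x : C) (hx : x ∈ I ^ n)
    (hx' : τ g x ∈ I ^ n) : τR τ hI g (mon k I n x hx) = mon k I n (τ g x) hx' :=
  ext_coeff fun m => by
    rw [coeff_τR]
    show τ g ((monomial n x).coeff m) = (monomial n (τ g x)).coeff m
    rw [coeff_monomial, coeff_monomial]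
    split_ifs with h
    · rfl
    · rw [map_zero]

theorem τR_cst {I : Ideal C} (hI : ∀ g, ∀ x ∈ I, τ g x ∈ I) (g : G) (x : C) :
    τR τ hI g (cst k I x) = cst k I (τ g x) :=
  ext_coeff fun m => by
    rw [coeff_τR]
    show τ g ((Polynomial.C x).coeff m) = (Polynomial.C (τ g x)).coeff m
    rw [coeff_C, coeff_C]
    split_ifs with h
    · rfl
    · rw [map_zero]

theorem exists_quo {I : Ideal C} {s c : C} (hgen : ∀ x ∈ I, ∃ b, c * x = s * b) (n : ℕ) {x : C} (hx : x ∈ I ^ n) :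
    ∃ b, c ^ n * x = s ^ n * b := by
  have h1 : Ideal.span {c} * I ≤ Ideal.span {s} := by
    rw [Ideal.mul_le]
    intro a ha b hb
    obtain ⟨a', rfl⟩ := Ideal.mem_span_singleton'.1 ha
    obtain ⟨b', hb'⟩ := hgen b hb
    rw [mul_assoc, hb']
    exact Ideal.mem_span_singleton'.2 ⟨a' * b', by ring⟩
  have h2 : c ^ n * x ∈ Ideal.span {c} ^ n * I ^ n :=
    Ideal.mul_mem_mul (Ideal.pow_mem_pow (Ideal.mem_span_singleton_self c) n) hx
  rw [← mul_pow] at h2
  have h3 := Ideal.pow_right_mono h1 n h2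
  rw [Ideal.span_singleton_pow] at h3
  obtain ⟨b, hb⟩ := Ideal.mem_span_singleton'.1 h3
  exact ⟨b, by rw [← hb]; ring⟩

/-- The standard point over `z`. -/
theorem exists_y (I : Ideal C) (z : C →ₐ[k] k) (s c : C) (hs : s ∈ I ^ 1) (hc : z c ≠ 0)
    (hgen : ∀ x ∈ I, ∃ b, c * x = s * b) (hreg : ∀ x, s * x = 0 → c * x = 0) :
    ∃ y : Rees k I →ₐ[k] k, (∀ x, y (cst k I x) = z x) ∧ y (mon k I 1 s hs) = 1 := by
  let D := Localization.Away c
  have hsD : algebraMap C D s ∈ nonZeroDivisors D := by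
    rw [mem_nonZeroDivisors_iff_right]
    intro x hx
    obtain ⟨⟨x, m⟩, rfl⟩ := IsLocalization.mk'_surjective (Submonoid.powers c) x
    rw [mul_comm, ← IsLocalization.mk'_one (M := Submonoid.powers c) D s, ← IsLocalization.mk'_mul,
      IsLocalization.mk'_eq_zero_iff] at hx
    obtain ⟨⟨_, n, rfl⟩, hn⟩ := hx
    rw [IsLocalization.mk'_eq_zero_iff]
    refine ⟨⟨c * c ^ n, n + 1, pow_succ' c n⟩, ?_⟩
    have h1 : s * (c ^ n * x) = 0 := by
      rw [← hn]; ring
    have h2 := hreg _ h1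
    show c * c ^ n * x = 0
    rw [← h2]; ring
  let L := Localization (nonZeroDivisors D)
  have hinj : Function.Injective (algebraMap D L) := IsLocalization.injective L le_rfl
  let u : L := IsLocalization.mk' L (1 : D) ⟨algebraMap C D s, hsD⟩
  have hu : algebraMap D L (algebraMap C D s) * u = 1 := by
    rw [IsLocalization.mk'_spec'_mk, map_one]
  let cu : D := IsLocalization.Away.invSelf c
  have hcu : algebraMap C D c * cu = 1 := IsLocalization.Away.mul_invSelf c
  let ψ : Rees k I →ₐ[k] L := ((aeval u : C[X] →ₐ[C] L).restrictScalars k).comp (Rees k I).val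
  have hmon : ∀ (n : ℕ) (x b : C) (hx : x ∈ I ^ n), c ^ n * x = s ^ n * b →
      ψ (mon k I n x hx) = algebraMap D L (cu ^ n * algebraMap C D b) := by
    intro n x b hx hb
    show aeval u (monomial n x) = _
    rw [aeval_monomial, IsScalarTower.algebraMap_apply C D L]
    have h1 : algebraMap C D x = cu ^ n * (algebraMap C D s ^ n * algebraMap C D b) := by
      rw [← map_pow, ← map_mul, ← hb, map_mul, map_pow, ← mul_assoc, ← mul_pow, mul_comm cu, hcu, one_pow, one_mul]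
    rw [h1, map_mul, map_mul, map_mul, map_pow, map_pow]
    have h2 : algebraMap D L (algebraMap C D s) ^ n * u ^ n = 1 := by rw [← mul_pow, hu, one_pow]
    calc algebraMap D L cu ^ n * (algebraMap D L (algebraMap C D s) ^ n * algebraMap D L (algebraMap C D b)) * u ^ n
        = algebraMap D L cu ^ n * algebraMap D L (algebraMap C D b) *
          (algebraMap D L (algebraMap C D s) ^ n * u ^ n) := by ring
      _ = _ := by rw [h2, mul_one]
  let j : D →ₐ[k] L := IsScalarTower.toAlgHom k D L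
  have hrange : ∀ F, ψ F ∈ j.range := by
    intro F
    rw [eq_sum F, map_sum]
    refine sum_mem fun n _ => ?_
    obtain ⟨b, hb⟩ := exists_quo hgen n (mem_rees.1 F.2 n)
    exact ⟨_, (hmon n _ b _ hb).symm⟩
  let ψ' : Rees k I →ₐ[k] D := (AlgEquiv.ofInjective j hinj).symm.toAlgHom.comp (ψ.codRestrict j.range hrange)
  have hψ' : ∀ F, algebraMap D L (ψ' F) = ψ F := by
    intro F
    have h1 := AlgEquiv.apply_symm_apply (AlgEquiv.ofInjective j hinj) (ψ.codRestrict j.range hrange F)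
    exact congrArg Subtype.val h1
  let zD : D →ₐ[k] k := IsLocalization.liftAlgHom (M := Submonoid.powers c) (f := z) (fun m => by
    obtain ⟨_, n, rfl⟩ := m
    show IsUnit (z (c ^ n))
    rw [map_pow]
    exact (IsUnit.mk0 _ hc).pow n)
  have hzD : ∀ x, zD (algebraMap C D x) = z x := fun x => IsLocalization.lift_eq _ x
  refine ⟨zD.comp ψ', fun x => ?_, ?_⟩
  · have h1 : ψ' (cst k I x) = algebraMap C D x := by
      apply hinj
      rw [hψ']
      show aeval u (Polynomial.C x) = _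
      rw [aeval_C, IsScalarTower.algebraMap_apply C D L]
    show zD (ψ' (cst k I x)) = z x
    rw [h1, hzD]
  · have h1 : ψ' (mon k I 1 s hs) = 1 := by
      apply hinj
      rw [hψ', map_one]
      show aeval u (monomial 1 s) = _
      rw [aeval_monomial, pow_one, IsScalarTower.algebraMap_apply C D L, hu]
    show zD (ψ' (mon k I 1 s hs)) = 1
    rw [h1, map_one]

theorem cst_mul_mon {I : Ideal C} (a : C) (n : ℕ) (x : C) (hx : x ∈ I ^ n) (hx' : a * x ∈ I ^ n) :
    cst k I a * mon k I n x hx = mon k I n (a * x) hx' :=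
  Subtype.ext (by
    show Polynomial.C a * monomial n x = monomial n (a * x)
    rw [C_mul_monomial])

theorem mon_pow {I : Ideal C} (s : C) (hs : s ∈ I ^ 1) (n : ℕ) (h : s ^ n ∈ I ^ n) :
    mon k I 1 s hs ^ n = mon k I n (s ^ n) h :=
  Subtype.ext (by
    show (monomial 1 s) ^ n = monomial n (s ^ n)
    rw [monomial_pow, one_mul])

theorem mon_congr {I : Ideal C} {n : ℕ} {x x' : C} {hx : x ∈ I ^ n} {hx' : x' ∈ I ^ n} (h : x = x') :
    mon k I n x hx = mon k I n x' hx' := by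
  subst h
  rfl

theorem mon_add {I : Ideal C} (n : ℕ) (x y : C) (hx : x ∈ I ^ n) (hy : y ∈ I ^ n) :
    mon k I n (x + y) (add_mem hx hy) = mon k I n x hx + mon k I n y hy :=
  Subtype.ext (map_add (monomial n) x y)

section Point

variable {I : Ideal C} {z : C →ₐ[k] k} {s c : C} (hs : s ∈ I ^ 1) (hc : z c ≠ 0)
  (hgen : ∀ x ∈ I, ∃ b, c * x = s * b)

include hs hc hgen

theorem apply_mon (y' : Rees k I →ₐ[k] k) (hy' : ∀ x, y' (cst k I x) = z x) {n : ℕ} {x b : C} (hx : x ∈ I ^ n)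
    (hb : c ^ n * x = s ^ n * b) : z c ^ n * y' (mon k I n x hx) = z b * y' (mon k I 1 s hs) ^ n := by
  have hsn : s ^ n ∈ I ^ n := Ideal.pow_mem_pow (by rwa [pow_one] at hs) n
  have h1 : cst k I (c ^ n) * mon k I n x hx = cst k I b * mon k I 1 s hs ^ n := by
    rw [mon_pow s hs n hsn, cst_mul_mon _ _ _ _ (Ideal.mul_mem_left _ _ hx),
      cst_mul_mon _ _ _ _ (Ideal.mul_mem_left _ _ hsn)]
    exact mon_congr (by rw [hb]; ring)
  have h2 := congrArg y' h1
  rwa [map_mul, map_mul, hy', hy', map_pow, map_pow] at h2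

/-- The points over `z`. -/
theorem eq_σ (y : Rees k I →ₐ[k] k) (hy0 : ∀ x, y (cst k I x) = z x) (hy1 : y (mon k I 1 s hs) = 1)
    (y' : Rees k I →ₐ[k] k) (hy' : ∀ x, y' (cst k I x) = z x) (F : Rees k I) :
    y' F = y (σ (y' (mon k I 1 s hs)) F) := by
  conv_lhs => rw [eq_sum F]
  conv_rhs => rw [eq_sum F]
  rw [map_sum, map_sum, map_sum]
  refine Finset.sum_congr rfl fun n _ => ?_
  rw [σ_mon, map_smul, smul_eq_mul]
  obtain ⟨b, hb⟩ := exists_quo hgen n (mem_rees.1 F.2 n)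
  have h1 := apply_mon hs hc hgen y' hy' (mem_rees.1 F.2 n) hb
  have h2 := apply_mon hs hc hgen y hy0 (mem_rees.1 F.2 n) hb
  rw [hy1, one_pow, mul_one] at h2
  rw [← h2] at h1
  refine mul_left_cancel₀ (pow_ne_zero n hc) ?_
  rw [h1]; ring

end Point

section Main

variable [IsAlgClosed k] [CharZero k] [Algebra.FiniteType k C] {H : Subalgebra k (G → k)} [IsDomain H]
  [Algebra.FiniteType k H] (hτ : IsAct τ) (hA : IsAlg τ H) (hpt : ∀ x : H →ₐ[k] k, ∃ g, ∀ a : H, x a = a.1 g)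
  {I : Ideal C} (hI : ∀ g, ∀ x ∈ I, τ g x ∈ I) {z : C →ₐ[k] k} {s c : C} (hs : s ∈ I ^ 1) (hc : z c ≠ 0)
  (hgen : ∀ x ∈ I, ∃ b, c * x = s * b) (hcl : ∀ z' : C →ₐ[k] k, (∀ f, (∀ g, z (τ g f) = 0) → z' f = 0) →
    ∃ g, ∀ f, z' f = z (τ g f))
  (hstab : ∀ g, (∀ x, z (τ g x) = z x) → τ g s - s ∈ RingHom.ker z * I)
  {y : Rees k I →ₐ[k] k} (hy0 : ∀ x, y (cst k I x) = z x) (hy1 : y (mon k I 1 s hs) = 1)

theorem mem_J_σ {c : k} {F : Rees k I} : F ∈ J (τR τ hI) (y.comp (σ c)) ↔ σ c F ∈ J (τR τ hI) y :=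
  forall_congr' fun g => by
    show y (σ c (τR τ hI g F)) = 0 ↔ _
    rw [σ_τR]

include hy0 hstab hy1

/-- The stabiliser acts trivially. -/
theorem eq_one_of_comp {l : k} {g : G} (h : ∀ F, y (σ l F) = y (τR τ hI g F)) : l = 1 := by
  have h1 : ∀ x, z (τ g x) = z x := by
    intro x
    have := h (cst k I x)
    rw [σ_cst, τR_cst, hy0, hy0] at this
    exact this.symm
  have h2 : τ g s ∈ I ^ 1 := by
    rw [pow_one] at hs ⊢
    exact hI g s hs
  have h3 := h (mon k I 1 s hs)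
  rw [σ_mon, τR_mon hI g 1 s hs h2, pow_one, map_smul, hy1, smul_eq_mul, mul_one] at h3
  have h4 : ∀ w ∈ RingHom.ker z * I, ∃ hw : w ∈ I ^ 1, y (mon k I 1 w hw) = 0 := by
    intro w hw
    refine Submodule.mul_induction_on (C := fun w => ∃ hw : w ∈ I ^ 1, y (mon k I 1 w hw) = 0) hw ?_ ?_
    · intro a ha b hb
      have hb' : b ∈ I ^ 1 := by rwa [pow_one]
      refine ⟨Ideal.mul_mem_left _ _ hb', ?_⟩
      rw [← cst_mul_mon (k := k) a 1 b hb' (Ideal.mul_mem_left _ _ hb'), map_mul, hy0, show z a = 0 from ha, zero_mul]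
    · rintro a b ⟨ha, ha'⟩ ⟨hb, hb'⟩
      exact ⟨add_mem ha hb, by rw [mon_add 1 a b ha hb, map_add, ha', hb', add_zero]⟩
  obtain ⟨h5, h6⟩ := h4 _ (hstab g h1)
  have h7 : mon k I 1 (τ g s) h2 = mon k I 1 s hs + mon k I 1 (τ g s - s) h5 := by
    rw [← mon_add]
    exact mon_congr (by ring)
  rw [h7, map_add, hy1, h6, add_zero] at h3
  exact h3

include hτ hA hpt

theorem eq_one_of_J_eq {l : k} (h : J (τR τ hI) y = J (τR τ hI) (y.comp (σ l))) : l = 1 := by
  obtain ⟨g, hg⟩ := exists_eq_comp (isAct_τR hI hτ) (isAlg_τR hI hA) hpt y (y.comp (σ l)) h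
  exact eq_one_of_comp hI hs hstab hy0 hy1 (g := g) hg

theorem exists_not_homog : ∃ F ∈ J (τR τ hI) y, ∃ i, mon k I i (F.1.coeff i) (mem_rees.1 F.2 i) ∉ J (τR τ hI) y := by
  by_contra hcon
  push Not at hcon
  have h1 : ∀ (c : k) (F : Rees k I), F ∈ J (τR τ hI) y → σ c F ∈ J (τR τ hI) y := by
    intro c F hF
    rw [eq_sum F, map_sum]
    refine sum_mem fun n _ => ?_
    rw [σ_mon]
    exact Submodule.smul_of_tower_mem _ _ (hcon F hF n)
  have h2 : (2 : k) ≠ 0 := two_ne_zero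
  have h3 : J (τR τ hI) y = J (τR τ hI) (y.comp (σ 2)) := by
    ext F
    rw [mem_J_σ]
    constructor
    · exact h1 2 F
    · intro hF
      have := h1 2⁻¹ _ hF
      rwa [σ_σ, inv_mul_cancel₀ h2, σ_one] at this
  have h4 := eq_one_of_J_eq hτ hA hpt hI hs hstab hy0 hy1 h3
  have h5 : (1 : k) = 0 := by linear_combination h4
  exact one_ne_zero h5

include hc hgen

/-- The zero section is not in the closure of the orbit. -/
theorem not_zero : ¬ ∀ F ∈ J (τR τ hI) y, z (F.1.coeff 0) = 0 := by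
  classical
  intro hz
  obtain ⟨F, hF, i, hi⟩ := exists_not_homog hτ hA hpt hI hs hstab hy0 hy1
  have hex : ∃ i, mon k I i (F.1.coeff i) (mem_rees.1 F.2 i) ∉ J (τR τ hI) y := ⟨i, hi⟩
  obtain ⟨e, he, hmin⟩ : ∃ e, mon k I e (F.1.coeff e) (mem_rees.1 F.2 e) ∉ J (τR τ hI) y ∧
      ∀ j < e, mon k I j (F.1.coeff j) (mem_rees.1 F.2 j) ∈ J (τR τ hI) y :=
    ⟨Nat.find hex, Nat.find_spec hex, fun j hj => not_not.1 (Nat.find_min hex hj)⟩
  let F' : Rees k I := F - ∑ j ∈ Finset.range e, mon k I j (F.1.coeff j) (mem_rees.1 F.2 j)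
  have hF' : F' ∈ J (τR τ hI) y := sub_mem hF (sum_mem fun j hj => hmin j (Finset.mem_range.1 hj))
  have hcoeff : ∀ n, F'.1.coeff n = if n < e then 0 else F.1.coeff n := by
    intro n
    show (F.1 - (∑ j ∈ Finset.range e, mon k I j (F.1.coeff j) (mem_rees.1 F.2 j) : Rees k I).1).coeff n = _
    rw [AddSubmonoidClass.coe_finsetSum, coeff_sub, finsetSum_coeff]
    have h1 : ∀ j ∈ Finset.range e, (mon k I j (F.1.coeff j) (mem_rees.1 F.2 j)).1.coeff n =
        if j = n then F.1.coeff j else 0 := fun j _ => coeff_monomial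
    rw [Finset.sum_congr rfl h1, Finset.sum_ite_eq' (Finset.range e) n]
    simp only [Finset.mem_range]
    split_ifs <;> simp
  rw [mem_J, not_forall] at he
  obtain ⟨g, hg⟩ := he
  let P : Rees k I := τR τ hI g F'
  have hP : P ∈ J (τR τ hI) y := map_mem_J (isAct_τR hI hτ) hF' g
  have hPc : ∀ n, P.1.coeff n = if n < e then 0 else τ g (F.1.coeff n) := by
    intro n
    rw [coeff_τR, hcoeff]
    split_ifs
    · rw [map_zero]
    · rfl
  have hPe : y (mon k I e (P.1.coeff e) (mem_rees.1 P.2 e)) ≠ 0 := by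
    have h1 : τ g (F.1.coeff e) ∈ I ^ e := by
      have := mem_rees.1 P.2 e
      rwa [hPc, if_neg (lt_irrefl e)] at this
    rw [τR_mon hI g e _ _ h1] at hg
    rwa [mon_congr (show P.1.coeff e = τ g (F.1.coeff e) by rw [hPc, if_neg (lt_irrefl e)]) (hx' := h1)]
  choose b hb using fun n => exists_quo hgen n (mem_rees.1 P.2 n)
  have hbe : z (b e) ≠ 0 := by
    have := apply_mon hs hc hgen y hy0 (mem_rees.1 P.2 e) (hb e)
    rw [hy1, one_pow, mul_one] at this
    rw [← this]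
    exact mul_ne_zero (pow_ne_zero _ hc) hPe
  let N := P.1.natDegree
  have heN : e ≤ N := by
    by_contra hlt
    apply hPe
    have h1 : P.1.coeff e = 0 := coeff_eq_zero_of_natDegree_lt (not_le.1 hlt)
    rw [mon_congr h1 (hx' := zero_mem _), show mon k I e 0 (zero_mem _) = 0 from Subtype.ext (map_zero _), map_zero]
  have hs' : s ∈ I := by rwa [pow_one] at hs
  let q : Rees k I := ∑ m ∈ Finset.range (N + 1 - e), mon k I m (s ^ m * (c ^ (N - (m + e)) * b (m + e)))
    (Ideal.mul_mem_right _ _ (Ideal.pow_mem_pow hs' m))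
  have hqc : ∀ n, q.1.coeff n = if n < N + 1 - e then s ^ n * (c ^ (N - (n + e)) * b (n + e)) else 0 := by
    intro n
    show (∑ m ∈ Finset.range (N + 1 - e), mon k I m (s ^ m * (c ^ (N - (m + e)) * b (m + e)))
      (Ideal.mul_mem_right _ _ (Ideal.pow_mem_pow hs' m)) : Rees k I).1.coeff n = _
    rw [AddSubmonoidClass.coe_finsetSum, finsetSum_coeff]
    have h1 : ∀ m ∈ Finset.range (N + 1 - e), (mon k I m (s ^ m * (c ^ (N - (m + e)) * b (m + e)))
      (Ideal.mul_mem_right _ _ (Ideal.pow_mem_pow hs' m))).1.coeff n =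
        if m = n then s ^ m * (c ^ (N - (m + e)) * b (m + e)) else 0 := fun j _ => coeff_monomial
    rw [Finset.sum_congr rfl h1, Finset.sum_ite_eq' (Finset.range (N + 1 - e)) n]
    simp only [Finset.mem_range]
  have hkey : mon k I 1 s hs ^ e * q = cst k I (c ^ N) * P := by
    rw [mon_pow s hs e (Ideal.pow_mem_pow hs' e)]
    refine ext_coeff fun n => ?_
    show (monomial e (s ^ e) * q.1).coeff n = (Polynomial.C (c ^ N) * P.1).coeff n
    rw [coeff_C_mul, ← C_mul_X_pow_eq_monomial, mul_assoc, coeff_C_mul, coeff_X_pow_mul', hqc]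
    by_cases h1 : e ≤ n
    · rw [if_pos h1]
      by_cases h2 : n ≤ N
      · rw [if_pos (by omega), Nat.sub_add_cancel h1]
        calc s ^ e * (s ^ (n - e) * (c ^ (N - n) * b n)) = c ^ (N - n) * (s ^ (e + (n - e)) * b n) := by
              rw [pow_add]; ring
          _ = c ^ (N - n) * (s ^ n * b n) := by rw [Nat.add_sub_cancel' h1]
          _ = c ^ (N - n) * (c ^ n * P.1.coeff n) := by rw [hb n]
          _ = c ^ (N - n + n) * P.1.coeff n := by rw [pow_add]; ring
          _ = _ := by rw [Nat.sub_add_cancel h2]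
      · rw [if_neg (by omega), mul_zero, coeff_eq_zero_of_natDegree_lt (not_le.1 h2), mul_zero]
    · rw [if_neg h1, mul_zero, hPc, if_pos (not_le.1 h1), mul_zero]
  have hprime := isPrime_J (isAlg_τR hI hA) y
  have h1 : mon k I 1 s hs ^ e * q ∈ J (τR τ hI) y := by
    rw [hkey]
    exact Ideal.mul_mem_left _ _ hP
  rcases hprime.mem_or_mem h1 with h2 | h2
  · have h3 := apply_of_mem_J (isAct_τR hI hτ) (hprime.mem_of_pow_mem e h2)
    rw [hy1] at h3
    exact one_ne_zero h3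
  · have h3 := hz q h2
    rw [hqc, if_pos (by omega), pow_zero, one_mul, zero_add, map_mul, map_pow] at h3
    exact mul_ne_zero (pow_ne_zero _ hc) hbe h3

/-- The closure of the orbit of the standard point meets the fibre in one point. -/
theorem eq_one_of_le {l : k} (h : ∀ F ∈ J (τR τ hI) y, y (σ l F) = 0) : l = 1 := by
  haveI := finiteType_rees (k := k) I
  haveI : IsNoetherianRing (Rees k I) := Algebra.FiniteType.isNoetherianRing k _
  have hl : l ≠ 0 := by
    rintro rfl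
    refine not_zero hτ hA hpt hI hs hc hgen hstab hy0 hy1 fun F hF => ?_
    rw [← h F hF, ← hy0]
    congr 1
    refine ext_coeff fun n => ?_
    rw [coeff_σ]
    show (Polynomial.C (F.1.coeff 0)).coeff n = _
    rw [coeff_C]
    split_ifs with hn
    · rw [hn, pow_zero, one_smul]
    · rw [zero_pow hn, zero_smul]
  have hle : J (τR τ hI) y ≤ J (τR τ hI) (y.comp (σ l)) :=
    le_J (fun g F hF => map_mem_J (isAct_τR hI hτ) hF g) h
  have hmono : Monotone fun n : ℕ => J (τR τ hI) (y.comp (σ (l ^ n))) := by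
    refine monotone_nat_of_le_succ fun n F hF => ?_
    rw [mem_J_σ] at hF ⊢
    have h1 := hle hF
    rwa [mem_J_σ, σ_σ, ← pow_succ'] at h1
  obtain ⟨n, hn⟩ := monotone_stabilizes_iff_noetherian.2 (inferInstanceAs (IsNoetherian (Rees k I) (Rees k I)))
    ⟨_, hmono⟩
  have hn1 : J (τR τ hI) (y.comp (σ (l ^ n))) = J (τR τ hI) (y.comp (σ (l ^ (n + 1)))) := hn (n + 1) (Nat.le_succ n)
  refine eq_one_of_J_eq hτ hA hpt hI hs hstab hy0 hy1 (le_antisymm hle fun F hF => ?_)
  rw [mem_J_σ] at hF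
  have h2 : σ (l ^ n)⁻¹ F ∈ J (τR τ hI) (y.comp (σ (l ^ (n + 1)))) := by
    rw [mem_J_σ, σ_σ, pow_succ', mul_assoc, mul_inv_cancel₀ (pow_ne_zero n hl), mul_one]
    exact hF
  rw [← hn1, mem_J_σ, σ_σ, mul_inv_cancel₀ (pow_ne_zero n hl), σ_one] at h2
  exact h2

include hcl

/-- The closures of the orbits are disjoint. -/
theorem sup_eq_top {ζ : k} (h0 : ζ ≠ 0) (h1 : ζ ≠ 1) : J (τR τ hI) y ⊔ J (τR τ hI) (y.comp (σ ζ)) = ⊤ := by
  haveI := finiteType_rees (k := k) I
  by_contra hne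
  obtain ⟨y', hy'⟩ := exists_point (k := k) _ hne
  obtain ⟨g, hg⟩ := hcl (y'.comp (cst k I)) (fun f hf => hy' _ (Ideal.mem_sup_left fun g => by
    show y (τR τ hI g (cst k I f)) = 0
    rw [τR_cst, hy0]
    exact hf g))
  obtain ⟨g', -, hg'⟩ := hτ.inv g
  have hact := isAct_τR (k := k) hI hτ
  let y'' : Rees k I →ₐ[k] k := y'.comp (τR τ hI g')
  have hy'' : ∀ x, y'' (cst k I x) = z x := by
    intro x
    show y' (τR τ hI g' (cst k I x)) = z x
    rw [τR_cst]
    have h2 := hg (τ g' x)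
    rw [hg'] at h2
    exact h2
  let l : k := y'' (mon k I 1 s hs)
  have hl : ∀ F, y'' F = y (σ l F) := eq_σ hs hc hgen y hy0 hy1 y'' hy''
  have hl1 : l = 1 := eq_one_of_le hτ hA hpt hI hs hc hgen hstab hy0 hy1 fun F hF => by
    rw [← hl]
    exact hy' _ (Ideal.mem_sup_left (map_mem_J hact hF g'))
  have hl2 : l * ζ⁻¹ = 1 := eq_one_of_le hτ hA hpt hI hs hc hgen hstab hy0 hy1 fun F hF => by
    rw [← σ_σ, ← hl]
    refine hy' _ (Ideal.mem_sup_right (map_mem_J hact ?_ g'))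
    rw [mem_J_σ, σ_σ, mul_inv_cancel₀ h0, σ_one]
    exact hF
  rw [hl1, one_mul, inv_eq_one] at hl2
  exact h1 hl2

end Main

/-- A submonoid of `ℕ` which is not contained in `dℕ` for any `d ≠ 1` contains two consecutive numbers. -/
theorem exists_succ (S : AddSubmonoid ℕ) (hS : ∀ d : ℕ, d ≠ 1 → ∃ n ∈ S, ¬ d ∣ n) : ∃ n, n ∈ S ∧ n + 1 ∈ S := by
  obtain ⟨n, hn⟩ := Nat.exists_mem_closure_of_ge (S : Set ℕ)
  have hd : Nat.setGcd (S : Set ℕ) = 1 := by
    by_contra hne
    obtain ⟨m, hm, hm'⟩ := hS _ hne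
    exact hm' (Nat.setGcd_dvd_of_mem hm)
  rw [AddSubmonoid.closure_eq, hd] at hn
  exact ⟨n, hn n le_rfl (one_dvd _), hn (n + 1) (Nat.le_succ n) (one_dvd _)⟩

/-- In characteristic zero there is `ζ ≠ 1` with `ζ ^ d = 1`, for `d ≠ 1`. -/
theorem exists_root [IsAlgClosed k] [CharZero k] {d : ℕ} (hd : d ≠ 1) : ∃ ζ : k, ζ ≠ 0 ∧ ζ ≠ 1 ∧ ζ ^ d = 1 := by
  rcases Nat.eq_zero_or_pos d with rfl | hpos
  · refine ⟨2, two_ne_zero, ?_, pow_zero _⟩
    intro h
    have h5 : (1 : k) = 0 := by linear_combination h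
    exact one_ne_zero h5
  · haveI : NeZero d := ⟨hpos.ne'⟩
    haveI : NeZero (d : k) := ⟨Nat.cast_ne_zero.2 hpos.ne'⟩
    obtain ⟨ζ, hζ⟩ := HasEnoughRootsOfUnity.exists_primitiveRoot k d
    exact ⟨ζ, hζ.ne_zero hpos.ne', hζ.ne_one (by omega), hζ.pow_eq_one⟩

/-- **Kempf's descent lemma.** -/
theorem main [IsAlgClosed k] [CharZero k] [Algebra.FiniteType k C] {H : Subalgebra k (G → k)} [IsDomain H]
    [Algebra.FiniteType k H] (hτ : IsAct τ) (hA : IsAlg τ H) (hpt : ∀ x : H →ₐ[k] k, ∃ g, ∀ a : H, x a = a.1 g)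
    (ρ : C →ₗ[k] C) (hρ : ∀ x g, τ g (ρ x) = ρ x) (hρ1 : ρ 1 = 1)
    (hρJ : ∀ J : Submodule k C[X], (∀ g, ∀ F ∈ J, F.map (τ g : C →+* C) ∈ J) → ∀ F ∈ J, ∃ F' ∈ J,
      ∀ n, F'.coeff n = ρ (F.coeff n))
    {I : Ideal C} (hI : ∀ g, ∀ x ∈ I, τ g x ∈ I) (hann : ∀ x, (∀ a ∈ I, x * a = 0) → x = 0)
    {z : C →ₐ[k] k} {s c : C} (hs : s ∈ I) (hc : z c ≠ 0) (hgen : ∀ x ∈ I, ∃ b, c * x = s * b)
    (hreg : ∀ x, s * x = 0 → c * x = 0)
    (hcl : ∀ z' : C →ₐ[k] k, (∀ f, (∀ g, z (τ g f) = 0) → z' f = 0) → ∃ g, ∀ f, z' f = z (τ g f))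
    (hstab : ∀ g, (∀ x, z (τ g x) = z x) → τ g s - s ∈ RingHom.ker z * I) :
    ∃ a ∈ I, (∀ g, τ g a = a) ∧ ∃ h, (∀ g, τ g h = h) ∧ z h ≠ 0 ∧ ∀ x ∈ I, ∃ b, h * x = a * b := by
  classical
  have hs1 : s ∈ I ^ 1 := by rwa [pow_one]
  obtain ⟨y, hy0, hy1⟩ := exists_y I z s c hs1 hc hgen hreg
  -- invariants of powers of `I` which do not vanish at `z`
  let S : AddSubmonoid ℕ :=
    { carrier := {n | ∃ (f : C) (hf : f ∈ I ^ n), (∀ g, τ g f = f) ∧ y (mon k I n f hf) ≠ 0}
      zero_mem' := ⟨1, by simp, fun g => map_one _, by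
        have : mon k I 0 1 (by simp) = 1 := Subtype.ext (by
          show monomial 0 (1 : C) = 1
          rfl)
        rw [this, map_one]
        exact one_ne_zero⟩
      add_mem' := by
        rintro m n ⟨f, hf, hf1, hf2⟩ ⟨f', hf', hf1', hf2'⟩
        refine ⟨f * f', pow_add I m n ▸ Ideal.mul_mem_mul hf hf', fun g => by rw [map_mul, hf1, hf1'], ?_⟩
        rw [← mon_mul hf hf', map_mul]
        exact mul_ne_zero hf2 hf2' }
  have hρR : ∀ K : Ideal (Rees k I), (∀ g, ∀ F ∈ K, τR τ hI g F ∈ K) → ∀ F ∈ K, ∃ F' ∈ K,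
      ∀ n, F'.1.coeff n = ρ (F.1.coeff n) := by
    intro K hK F hF
    obtain ⟨F', ⟨⟨F'', hF''⟩, h1, rfl⟩, h2⟩ := hρJ ((K.restrictScalars k).map (Rees k I).val.toLinearMap) (by
      rintro g _ ⟨F, hF, rfl⟩
      exact ⟨τR τ hI g F, hK g F hF, rfl⟩) F.1 ⟨F, hF, rfl⟩
    exact ⟨_, h1, h2⟩
  obtain ⟨n, ⟨f₀, hf₀, hf₀i, hf₀y⟩, f₁, hf₁, hf₁i, hf₁y⟩ := exists_succ S (by
    intro d hd
    by_contra hcon
    push Not at hcon
    obtain ⟨ζ, hζ0, hζ1, hζ⟩ := exists_root (k := k) hd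
    have hsup := sup_eq_top hτ hA hpt hI hs1 hc hgen hcl hstab hy0 hy1 hζ0 hζ1
    have h1 : (1 : Rees k I) ∈ J (τR τ hI) y ⊔ J (τR τ hI) (y.comp (σ ζ)) := by rw [hsup]; trivial
    obtain ⟨j₁, hj₁, j₂, hj₂, h12⟩ := Submodule.mem_sup.1 h1
    have hact := isAct_τR (k := k) hI hτ
    obtain ⟨r₁, hr₁, hr₁'⟩ := hρR _ (fun g F hF => map_mem_J hact hF g) j₁ hj₁
    obtain ⟨r₂, hr₂, hr₂'⟩ := hρR _ (fun g F hF => map_mem_J hact hF g) j₂ hj₂
    have h3 : r₁ + r₂ = 1 := ext_coeff fun n => by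
      show r₁.1.coeff n + r₂.1.coeff n = (1 : C[X]).coeff n
      rw [hr₁', hr₂', ← map_add]
      have h4 : j₁.1.coeff n + j₂.1.coeff n = (1 : C[X]).coeff n := congrArg (fun F : Rees k I => F.1.coeff n) h12
      rw [h4, coeff_one]
      split_ifs
      · exact hρ1
      · exact map_zero _
    have h4 : y r₂ = 1 := by
      have := congrArg y h3
      rwa [map_add, map_one, apply_of_mem_J hact hr₁, zero_add] at this
    have h5 : y (σ ζ r₂) = 0 := apply_of_mem_J hact (mem_J_σ (hI := hI) |>.1 hr₂)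
    have h6 : y (σ ζ r₂) = y r₂ := by
      conv_lhs => rw [eq_sum r₂]
      conv_rhs => rw [eq_sum r₂]
      rw [map_sum, map_sum, map_sum]
      refine Finset.sum_congr rfl fun n _ => ?_
      rw [σ_mon, map_smul, smul_eq_mul]
      by_cases hn : y (mon k I n (r₂.1.coeff n) (mem_rees.1 r₂.2 n)) = 0
      · rw [hn, mul_zero]
      · obtain ⟨m, rfl⟩ := hcon n ⟨r₂.1.coeff n, mem_rees.1 r₂.2 n, fun g => by rw [hr₂', hρ], hn⟩
        rw [pow_mul, hζ, one_pow, one_mul]
    rw [h5, h4] at h6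
    exact zero_ne_one h6)
  -- an invariant `h` with `h Iᵐ ⊆ f C`, for an invariant `f` which generates at `z`
  have hT : ∀ (m : ℕ) (f : C) (hf : f ∈ I ^ m), (∀ g, τ g f = f) → y (mon k I m f hf) ≠ 0 →
      ∃ h, (∀ g, τ g h = h) ∧ z h ≠ 0 ∧ ∀ x ∈ I ^ m, ∃ b, h * x = f * b := by
    intro m f hf hfi hfy
    let B : Ideal C :=
      { carrier := {h | ∀ x ∈ I ^ m, ∃ b, h * x = f * b}
        add_mem' := by
          intro a b ha hb x hx
          obtain ⟨a', ha'⟩ := ha x hx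
          obtain ⟨b', hb'⟩ := hb x hx
          exact ⟨a' + b', by rw [add_mul, ha', hb', mul_add]⟩
        zero_mem' := fun x _ => ⟨0, by rw [zero_mul, mul_zero]⟩
        smul_mem' := by
          intro c a ha x hx
          obtain ⟨a', ha'⟩ := ha x hx
          exact ⟨c * a', by rw [smul_eq_mul, mul_assoc, ha']; ring⟩ }
    have hpow : ∀ g, ∀ x ∈ I ^ m, τ g x ∈ I ^ m := by
      intro g x hx
      have h1 : I.map (τ g : C →+* C) ≤ I := by
        rw [Ideal.map_le_iff_le_comap]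
        exact fun x hx => hI g x hx
      have h2 : (I ^ m).map (τ g : C →+* C) ≤ I ^ m := by
        rw [Ideal.map_pow]
        exact Ideal.pow_right_mono h1 m
      exact h2 (Ideal.mem_map_of_mem _ hx)
    have hB : ∀ g, ∀ h ∈ B, τ g h ∈ B := by
      intro g h hh x hx
      obtain ⟨g', -, hg'⟩ := hτ.inv g
      obtain ⟨b, hb⟩ := hh (τ g' x) (hpow g' x hx)
      refine ⟨τ g b, ?_⟩
      have := congrArg (τ g) hb
      rwa [map_mul, map_mul, hg', hfi] at this
    obtain ⟨b, hb⟩ := exists_quo hgen m hf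
    have hzb : z b ≠ 0 := by
      have := apply_mon hs1 hc hgen y hy0 hf hb
      rw [hy1, one_pow, mul_one] at this
      rw [← this]
      exact mul_ne_zero (pow_ne_zero _ hc) hfy
    have hbB : b * c ^ m ∈ B := by
      intro x hx
      obtain ⟨b', hb'⟩ := exists_quo hgen m hx
      refine ⟨c ^ m * b', ?_⟩
      rw [mul_assoc, hb']
      calc b * (s ^ m * b') = (s ^ m * b) * b' := by ring
        _ = c ^ m * f * b' := by rw [← hb]
        _ = _ := by ring
    have hsup : B ⊔ J τ z = ⊤ := by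
      by_contra hne
      obtain ⟨z', hz'⟩ := exists_point (k := k) _ hne
      obtain ⟨g, hg⟩ := hcl z' fun f hf => hz' _ (Ideal.mem_sup_right hf)
      obtain ⟨g', -, hg'⟩ := hτ.inv g
      have h1 := hz' _ (Ideal.mem_sup_left (hB g' _ hbB))
      rw [hg, hg', map_mul, map_pow] at h1
      exact mul_ne_zero hzb (pow_ne_zero _ hc) h1
    have h1 : (1 : C) ∈ B ⊔ J τ z := by rw [hsup]; trivial
    obtain ⟨h, hh, κ, hκ, hhκ⟩ := Submodule.mem_sup.1 h1
    have hρC : ∀ K : Ideal C, (∀ g, ∀ x ∈ K, τ g x ∈ K) → ∀ x ∈ K, ρ x ∈ K := by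
      intro K hK x hx
      obtain ⟨F', ⟨x', hx', rfl⟩, h2⟩ := hρJ ((K.restrictScalars k).map ((Polynomial.CAlgHom (R := k) (A := C)).toLinearMap)) (by
        rintro g _ ⟨x, hx, rfl⟩
        refine ⟨τ g x, hK g x hx, ?_⟩
        show Polynomial.C (τ g x) = (Polynomial.C x).map _
        rw [map_C]
        rfl) (Polynomial.C x) ⟨x, hx, rfl⟩
      have h3 := h2 0
      rw [coeff_C_zero] at h3
      change (Polynomial.C x').coeff 0 = _ at h3
      rw [coeff_C_zero] at h3
      rw [← h3]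
      exact hx'
    refine ⟨ρ h, hρ h, ?_, fun x hx => hρC B hB h hh x hx⟩
    have h2 : ρ h + ρ κ = 1 := by rw [← map_add, hhκ, hρ1]
    have h3 := congrArg z h2
    rw [map_add, map_one, apply_of_mem_J hτ (hρC (J τ z) (fun g x hx => map_mem_J hτ hx g) κ hκ), add_zero] at h3
    rw [h3]
    exact one_ne_zero
  obtain ⟨h₀, hh₀i, hh₀z, hh₀⟩ := hT n f₀ hf₀ hf₀i hf₀y
  obtain ⟨h₁, hh₁i, hh₁z, hh₁⟩ := hT (n + 1) f₁ hf₁ hf₁i hf₁y
  -- `f₀` is a nonzerodivisor after inverting `h₀`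
  have hannp : ∀ (m : ℕ) (x : C), (∀ a ∈ I ^ m, x * a = 0) → x = 0 := by
    intro m
    induction m with
    | zero =>
      intro x hx
      have := hx 1 (by simp)
      rwa [mul_one] at this
    | succ m ih =>
      intro x hx
      refine ih x fun a ha => hann _ fun b hb => ?_
      rw [mul_assoc]
      exact hx _ (by rw [pow_succ]; exact Ideal.mul_mem_mul ha hb)
  have hreg₀ : ∀ x, f₀ * x = 0 → h₀ * x = 0 := by
    intro x hx
    refine hannp n _ fun a ha => ?_
    obtain ⟨b, hb⟩ := hh₀ a ha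
    calc h₀ * x * a = (h₀ * a) * x := by ring
      _ = f₀ * b * x := by rw [hb]
      _ = b * (f₀ * x) := by ring
      _ = 0 := by rw [hx, mul_zero]
  -- `h₀ f₁ = f₀ a`
  obtain ⟨a, ha, hfa⟩ : ∃ a ∈ I, h₀ * f₁ = f₀ * a := by
    rw [pow_succ] at hf₁
    refine Submodule.mul_induction_on (C := fun w => ∃ a ∈ I, h₀ * w = f₀ * a) hf₁ ?_ ?_
    · intro u hu v hv
      obtain ⟨b, hb⟩ := hh₀ u hu
      exact ⟨b * v, Ideal.mul_mem_left _ _ hv, by rw [← mul_assoc, hb]; ring⟩
    · rintro u v ⟨a, ha, ha'⟩ ⟨b, hb, hb'⟩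
      exact ⟨a + b, add_mem ha hb, by rw [mul_add, ha', hb', mul_add]⟩
  refine ⟨h₀ * a, Ideal.mul_mem_left _ _ ha, fun g => ?_, h₀ * h₀ * h₁, fun g => ?_, ?_, fun x hx => ?_⟩
  · have h1 : f₀ * (τ g a - a) = 0 := by
      have h2 := congrArg (τ g) hfa
      rw [map_mul, map_mul, hh₀i, hf₁i, hf₀i, hfa] at h2
      rw [mul_sub, ← h2, sub_self]
    have h2 := hreg₀ _ h1
    rw [map_mul, hh₀i]
    rw [mul_sub, sub_eq_zero] at h2
    exact h2
  · rw [map_mul, map_mul, hh₀i, hh₁i]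
  · rw [map_mul, map_mul]
    exact mul_ne_zero (mul_ne_zero hh₀z hh₀z) hh₁z
  · obtain ⟨b, hb⟩ := hh₁ (f₀ * x) (by rw [pow_succ]; exact Ideal.mul_mem_mul hf₀ hx)
    refine ⟨b, ?_⟩
    have h1 : f₀ * (h₀ * h₁ * x - a * b) = 0 := by
      calc f₀ * (h₀ * h₁ * x - a * b) = h₀ * (h₁ * (f₀ * x)) - (f₀ * a) * b := by ring
        _ = h₀ * (f₁ * b) - (h₀ * f₁) * b := by rw [hb, hfa]
        _ = 0 := by ring
    have h2 := hreg₀ _ h1
    linear_combination h2

end Groth.Agent.BunMod.K356.Kempf
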