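import Groth.Agent.FlatB.GenFibA
import Mathlib.RingTheory.ReesAlgebra
import Mathlib.RingTheory.Jacobson.Ring
import Mathlib.FieldTheory.IsAlgClosed.Basic
import Mathlib.NumberTheory.FrobeniusNumber

/-!
# Orbits of an algebraic action on a finite type algebra over an algebraically closed field

The group enters only through an index type `G`, the automorphisms `τ g` of the algebra, and the algebra `H` of
regular functions on `G` (a subalgebra of `G → k`).

* `exists_point`: Nullstellensatz.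
* `IsAct`: the `τ g` are closed under composition and inverses.
* `J y`: the ideal of the closure of the orbit of the point `y`; it is prime.
* `exists_open`: the orbit contains a nonempty open subset of its closure.
* `exists_eq_comp`: two orbits with the same closure are equal.
* `exists_closedOrbit`: a nonempty closed stable subset contains a closed orbit.
-/

set_option autoImplicit false

universe u

namespace Groth.Agent.BunMod.K356.Orbit

/-- Nullstellensatz. -/
theorem exists_point {k : Type u} [Field k] [IsAlgClosed k] {R : Type u} [CommRing R] [Algebra k R]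
    [Algebra.FiniteType k R] (I : Ideal R) (hI : I ≠ ⊤) : ∃ y : R →ₐ[k] k, ∀ x ∈ I, y x = 0 := by
  obtain ⟨m, hm, hIm⟩ := Ideal.exists_le_maximal I hI
  letI : Field (R ⧸ m) := Ideal.Quotient.field m
  haveI : Module.Finite k (R ⧸ m) := finite_of_finite_type_of_isJacobsonRing k (R ⧸ m)
  let φ : (R ⧸ m) →ₐ[k] k := IsAlgClosed.lift
  refine ⟨φ.comp (Ideal.Quotient.mkₐ k m), fun x hx => ?_⟩
  have h0 : Ideal.Quotient.mk m x = 0 := Ideal.Quotient.eq_zero_iff_mem.2 (hIm hx)
  change φ (Ideal.Quotient.mk m x) = 0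
  rw [h0, map_zero]

variable {k : Type u} [Field k] {G : Type u}

/-- The endomorphisms `τ g` are closed under composition and inverses. -/
structure IsAct {R : Type u} [CommRing R] [Algebra k R] (τ : G → R →ₐ[k] R) : Prop where
  one : ∃ e, ∀ x, τ e x = x
  mul : ∀ g h, ∃ m, ∀ x, τ m x = τ g (τ h x)
  inv : ∀ g, ∃ g', (∀ x, τ g' (τ g x) = x) ∧ ∀ x, τ g (τ g' x) = x

/-- The matrix coefficients of the action are regular functions. -/
def IsAlg {R : Type u} [CommRing R] [Algebra k R] (τ : G → R →ₐ[k] R) (H : Subalgebra k (G → k)) : Prop :=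
  ∀ (l : R →ₗ[k] k) (x : R), (fun g => l (τ g x)) ∈ H

section

variable {R : Type u} [CommRing R] [Algebra k R] {τ : G → R →ₐ[k] R} {H : Subalgebra k (G → k)}

/-- The orbit map. -/
def Φ (hA : IsAlg τ H) (y : R →ₐ[k] k) : R →ₐ[k] H where
  toFun x := ⟨fun g => y (τ g x), hA y.toLinearMap x⟩
  map_one' := Subtype.ext (funext fun g => by simp)
  map_mul' a b := Subtype.ext (funext fun g => by simp)
  map_zero' := Subtype.ext (funext fun g => by simp)
  map_add' a b := Subtype.ext (funext fun g => by simp)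
  commutes' c := Subtype.ext (funext fun g => by
    show y (τ g (algebraMap k R c)) = _
    rw [AlgHom.commutes, AlgHom.commutes]
    rfl)

/-- The ideal of the closure of the orbit of `y`. -/
def J (τ : G → R →ₐ[k] R) (y : R →ₐ[k] k) : Ideal R where
  carrier := {x | ∀ g, y (τ g x) = 0}
  add_mem' {a b} ha hb g := by rw [map_add, map_add, ha g, hb g, add_zero]
  zero_mem' g := by rw [map_zero, map_zero]
  smul_mem' c x hx g := by rw [smul_eq_mul, map_mul, map_mul, hx g, mul_zero]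

theorem mem_J {y : R →ₐ[k] k} {x : R} : x ∈ J τ y ↔ ∀ g, y (τ g x) = 0 := Iff.rfl

theorem ker_Φ (hA : IsAlg τ H) (y : R →ₐ[k] k) : RingHom.ker (Φ hA y) = J τ y := by
  ext x
  rw [RingHom.mem_ker, mem_J]
  constructor
  · intro h g
    have := congrArg (fun z : H => z.1 g) h
    exact this
  · intro h
    exact Subtype.ext (funext fun g => h g)

theorem isPrime_J [IsDomain H] (hA : IsAlg τ H) (y : R →ₐ[k] k) : (J τ y).IsPrime := by
  rw [← ker_Φ hA y]
  exact RingHom.ker_isPrime _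

theorem map_mem_J (hτ : IsAct τ) {y : R →ₐ[k] k} {x : R} (hx : x ∈ J τ y) (g : G) : τ g x ∈ J τ y := by
  intro h
  obtain ⟨m, hm⟩ := hτ.mul h g
  rw [← hm]
  exact hx m

theorem apply_of_mem_J (hτ : IsAct τ) {y : R →ₐ[k] k} {x : R} (hx : x ∈ J τ y) : y x = 0 := by
  obtain ⟨e, he⟩ := hτ.one
  have := hx e
  rwa [he] at this

theorem J_comp (hτ : IsAct τ) (y : R →ₐ[k] k) (g : G) : J τ (y.comp (τ g)) = J τ y := by
  ext x
  constructor
  · intro hx h
    obtain ⟨g', -, hg'⟩ := hτ.inv g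
    obtain ⟨m, hm⟩ := hτ.mul g' h
    have := hx m
    change y (τ g (τ m x)) = 0 at this
    rwa [hm, hg'] at this
  · intro hx h
    obtain ⟨m, hm⟩ := hτ.mul g h
    change y (τ g (τ h x)) = 0
    rw [← hm]
    exact hx m

/-- A stable subset which is annihilated by `y` is contained in `J y`. -/
theorem le_J {I : Ideal R} (hI : ∀ g, ∀ x ∈ I, τ g x ∈ I) {y : R →ₐ[k] k} (h : ∀ x ∈ I, y x = 0) : I ≤ J τ y :=
  fun x hx g => h _ (hI g x hx)

variable [IsAlgClosed k]

/-- The orbit contains a nonempty open subset of its closure. -/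
theorem exists_open [IsDomain H] [Algebra.FiniteType k H] (hA : IsAlg τ H)
    (hpt : ∀ x : H →ₐ[k] k, ∃ g, ∀ a : H, x a = a.1 g) (y : R →ₐ[k] k) :
    ∃ F ∉ J τ y, ∀ y' : R →ₐ[k] k, (∀ x ∈ J τ y, y' x = 0) → y' F ≠ 0 → ∃ g, ∀ x, y' x = y (τ g x) := by
  haveI := isPrime_J hA y
  let f : (R ⧸ J τ y) →ₐ[k] H := Ideal.Quotient.liftₐ (J τ y) (Φ hA y) (fun a ha => by
    have : a ∈ RingHom.ker (Φ hA y) := by rw [ker_Φ]; exact ha
    exact this)
  letI : Algebra (R ⧸ J τ y) H := f.toRingHom.toAlgebra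
  have hst : IsScalarTower k (R ⧸ J τ y) H := IsScalarTower.of_algebraMap_eq fun c => (f.commutes c).symm
  haveI : Algebra.FiniteType (R ⧸ J τ y) H := Algebra.FiniteType.of_restrictScalars_finiteType k _ _
  have hinj : Function.Injective (algebraMap (R ⧸ J τ y) H) := by
    rw [injective_iff_map_eq_zero]
    intro a ha
    obtain ⟨a, rfl⟩ := Ideal.Quotient.mk_surjective a
    rw [Ideal.Quotient.eq_zero_iff_mem, ← ker_Φ hA y]
    exact ha
  obtain ⟨a, ha0, ha⟩ := FlatB.GenFibA.exists_extend (A := R ⧸ J τ y) H hinj 1 one_ne_zero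
  obtain ⟨F, rfl⟩ := Ideal.Quotient.mk_surjective a
  refine ⟨F, fun h => ha0 (Ideal.Quotient.eq_zero_iff_mem.2 h), fun y' hy' hF => ?_⟩
  let y₁ : (R ⧸ J τ y) →ₐ[k] k := Ideal.Quotient.liftₐ (J τ y) y' hy'
  letI : Algebra (R ⧸ J τ y) k := y₁.toRingHom.toAlgebra
  obtain ⟨L', _, _, _, _, h1, h2, -⟩ := ha k hF
  -- the ideal of `H` generated by the maximal ideal of `y'`
  let I : Ideal H := (RingHom.ker y₁).map (algebraMap (R ⧸ J τ y) H)
  have hI : I ≠ ⊤ := by
    intro hI
    have h3 : I ≤ RingHom.ker (algebraMap H L') := by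
      rw [Ideal.map_le_iff_le_comap]
      intro c hc
      change algebraMap H L' (algebraMap (R ⧸ J τ y) H c) = 0
      rw [← IsScalarTower.algebraMap_apply (R ⧸ J τ y) H L', IsScalarTower.algebraMap_apply (R ⧸ J τ y) k L']
      change algebraMap k L' (y₁ c) = 0
      rw [show y₁ c = 0 from hc, map_zero]
    rw [hI] at h3
    have h4 : (1 : H) ∈ RingHom.ker (algebraMap H L') := h3 Submodule.mem_top
    rw [RingHom.mem_ker, map_one] at h4
    exact one_ne_zero h4
  obtain ⟨x, hx⟩ := exists_point (k := k) I hI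
  obtain ⟨g, hg⟩ := hpt x
  refine ⟨g, fun c => ?_⟩
  have h5 : ∀ c : R, y' c = x (Φ hA y c) := by
    intro c
    have h6 : Ideal.Quotient.mk (J τ y) (c - algebraMap k R (y' c)) ∈ RingHom.ker y₁ := by
      change y' (c - algebraMap k R (y' c)) = 0
      rw [map_sub, AlgHom.commutes]
      simp
    have h7 := hx _ (Ideal.mem_map_of_mem (algebraMap (R ⧸ J τ y) H) h6)
    change x (Φ hA y (c - algebraMap k R (y' c))) = 0 at h7
    rw [map_sub, map_sub, AlgHom.commutes, AlgHom.commutes, sub_eq_zero] at h7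
    exact h7.symm
  rw [h5 c, hg]
  rfl

/-- Two orbits with the same closure are equal. -/
theorem exists_eq_comp [IsDomain H] [Algebra.FiniteType k H] (hτ : IsAct τ) (hA : IsAlg τ H)
    (hpt : ∀ x : H →ₐ[k] k, ∃ g, ∀ a : H, x a = a.1 g) (y y' : R →ₐ[k] k) (h : J τ y = J τ y') :
    ∃ g, ∀ x, y' x = y (τ g x) := by
  obtain ⟨F, hF, hF'⟩ := exists_open hA hpt y'
  rw [← h, mem_J, not_forall] at hF
  obtain ⟨g, hg⟩ := hF
  obtain ⟨h₁, hh₁⟩ := hF' (y.comp (τ g)) (fun x hx => by
    rw [← h] at hx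
    exact hx g) hg
  obtain ⟨h₂, -, hh₂⟩ := hτ.inv h₁
  obtain ⟨m, hm⟩ := hτ.mul g h₂
  refine ⟨m, fun x => ?_⟩
  have := hh₁ (τ h₂ x)
  rw [hh₂] at this
  rw [hm]
  exact this.symm

/-- A nonempty closed stable subset contains a closed orbit. -/
theorem exists_closedOrbit [IsDomain H] [Algebra.FiniteType k H] [Algebra.FiniteType k R] (hτ : IsAct τ)
    (hA : IsAlg τ H) (hpt : ∀ x : H →ₐ[k] k, ∃ g, ∀ a : H, x a = a.1 g) (I : Ideal R)
    (hI : ∀ g, ∀ x ∈ I, τ g x ∈ I) (h1 : I ≠ ⊤) :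
    ∃ y : R →ₐ[k] k, (∀ x ∈ I, y x = 0) ∧
      ∀ y' : R →ₐ[k] k, (∀ x, (∀ g, y (τ g x) = 0) → y' x = 0) → ∃ g, ∀ x, y' x = y (τ g x) := by
  haveI : IsNoetherianRing R := Algebra.FiniteType.isNoetherianRing k R
  let S : Set (Ideal R) := {K | ∃ y : R →ₐ[k] k, (∀ x ∈ I, y x = 0) ∧ K = J τ y}
  obtain ⟨y₀, hy₀⟩ := exists_point (k := k) I h1
  obtain ⟨K, ⟨y, hy, rfl⟩, hmax⟩ := set_has_maximal_iff_noetherian.2 (inferInstanceAs (IsNoetherian R R)) S
    ⟨_, y₀, hy₀, rfl⟩
  refine ⟨y, hy, fun y' hy' => ?_⟩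
  have hle : J τ y ≤ J τ y' := le_J (fun g x hx => map_mem_J hτ hx g) fun x hx => hy' x hx
  refine exists_eq_comp hτ hA hpt y y' ?_
  by_contra hne
  exact hmax (J τ y') ⟨y', fun x hx => apply_of_mem_J hτ (hle (le_J hI hy hx)), rfl⟩ (lt_of_le_of_ne hle hne)

end

end Groth.Agent.BunMod.K356.Orbit
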