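import Groth.Agent.BunMod.K356.Seq
import Groth.Agent.BunMod.K54.Exists
import Groth.Agent.BunMod.K140.Asm1
import Groth.Agent.BunMod.K319.SumFam
import Groth.Agent.SDiv.K476.HomSh3

/-!
# The sequence `0 → N → L → Q → 0` and families

For families of semistable bundles of degree `0` the vanishing and numerical conditions `GeomTw`, `GeomChi` of `K54` hold;
local determinantal presentations exist.
-/

set_option autoImplicit false

universe u

open CategoryTheory CategoryTheory.Limits AlgebraicGeometry TensorProduct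

namespace Groth.Agent.BunMod.K356.Seq

open K140.BM K54.Theta K54.FamSec K54.GenPull K54.TwExact K54.DP K54.UB

variable {k : Type u} [Field k] [IsAlgClosed k] {X : Scheme.{u}} [X.Over (Spec (CommRingCat.of k))]
  [IsProper (X ↘ Spec (CommRingCat.of k))]

omit [IsAlgClosed k] [X.Over (Spec (CommRingCat.of k))] [IsProper (X ↘ Spec (CommRingCat.of k))] in
theorem isFinLocFree_inv {L : X.Modules} (hL : PicF.IsInvertible L) : FlatMod.IsFinLocFree L :=
  K707.Base.isFinLocFree_of_rank (K707.TensL.rank_one_iff.2 hL)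

include k in
omit [IsAlgClosed k] in
theorem isFP_coh {L : X.Modules} (hL : Coh.IsCoh L) : CohB1.IsFP L := by
  have : IsLocallyNoetherian X := (Groth.Agent.CurvesB.CurveRR.isNoetherian_of_proper k X).toIsLocallyNoetherian
  exact K476.HomSh3.isFP_of_isCoh hL

variable [Smooth (X ↘ Spec (CommRingCat.of k))] [GeometricallyConnected (X ↘ Spec (CommRingCat.of k))]
  (hdim : topologicalKrullDim X = 1) {S : ShortComplex X.Modules} (h : SeqOK k S) {r : ℕ} {T : Over (B0 k)}
  {E : (PicF.XT (st k X) T).Modules} (hE : BunMod.ussOK (st k X) r 0 T E)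

include hdim h hE

/-- `H¹(E ⊗ L) = 0` on the geometric fibres. -/
theorem SeqOK.geomTw : GeomTw E S.X₂ := fun Ω _ _ s g => h.h1₂ hdim (K319.SumFam.ssb_pl hE g)

/-- `χ(E ⊗ N) = 0` on the geometric fibres. -/
theorem SeqOK.geomChi : GeomChi E S.X₁ := fun Ω _ _ s g => h.chi₁ hdim (K319.SumFam.ssb_pl hE g)

/-- Local determinantal presentations. -/
theorem SeqOK.exists_local (t : T.left) : ∃ (U : T.left.Opens) (_ : IsAffineOpen U) (_ : IsAffine (opn T U).left)
    (D : DetPres S (opn T U) (pl k X (opi T U) E)), t ∈ U ∧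
      (thetaIdeal k S.X₁ (opn T U) (pl k X (opi T U) E)).ideal ⟨⊤, isAffineOpen_top _⟩ = Ideal.span {D.d.det} := by
  have h1 : LocallyOfFinitePresentation (st k X) := inferInstanceAs
    (LocallyOfFinitePresentation (X ↘ Spec (CommRingCat.of k)))
  exact K54.DP.exists_local hdim.le h.ex (isFinLocFree_inv h.inv₁) (isFinLocFree_inv h.inv₂)
    (isFP_coh (k := k) h.coh₃) (K707.Base.isFinLocFree_of_rank hE.1) (h.geomTw hdim hE) (h.geomChi hdim hE) t

end Groth.Agent.BunMod.K356.Seq
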