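import Groth.Agent.BunMod.K356.Seq2
import Groth.Agent.BunMod.K356.FixFin
import Groth.Agent.BunMod.K562.PtMat
import Groth.Agent.BunMod.K562.Jump

/-!
# The theta divisor of a moduli space with an atlas

`core`: `A` an atlas of a problem `Q` of semistable bundles of degree `0` with smooth `A.Z` and lifting of first order
deformations, `N` invertible of degree `g - 1`: the theta ideal of `A.E` is an effective Cartier ideal, it is the
pull-back of the vanishing ideal of the theta locus in the quotient, which is effective Cartier as well.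
-/

set_option autoImplicit false

universe u

open CategoryTheory CategoryTheory.Limits AlgebraicGeometry TensorProduct

namespace Groth.Agent.BunMod.K356.ThetaMain

open K140.BM K54.Theta K54.FamSec K54.GenPull K54.TwExact K54.DP K54.UB
open Groth.Agent.BunMod.K356.Seq Groth.Agent.BunMod.K356.AtlasAct Groth.Agent.BunMod.K356.Descend
open K822 K822.XTD

variable {k : Type u} [Field k] [IsAlgClosed k] {X : Scheme.{u}} [X.Over (Spec (CommRingCat.of k))]
  [IsProper (X ↘ Spec (CommRingCat.of k))] [Smooth (X ↘ Spec (CommRingCat.of k))]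
  [GeometricallyConnected (X ↘ Spec (CommRingCat.of k))] (hdim : topologicalKrullDim X = 1) {r : ℕ}
  {Q : ∀ T : Over (B0 k), (ModFun.modProb (st k X)).Fam T → Prop} (hQ : SubProb k X r Q)
  (A : AtlasC k X Q)

include hdim hQ

/-- The theta ideal of the atlas is radical and effective Cartier. -/
theorem rad (hadm : ∀ {E₀ N₀ : (PicF.XT (st k X) (T0 k)).Modules}, Q (T0 k) E₀ → PicF.IsInvertible N₀ →
      K562.AdmExt.Adm Q E₀ N₀) (hsm : Smooth A.Z.hom) (hl : K562.LiftPt.HasLift Q A.Z A.E)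
    {S : ShortComplex X.Modules} (hS : SeqOK k S) :
    (thetaIdeal k S.X₁ A.Z A.E).radical = thetaIdeal k S.X₁ A.Z A.E ∧
      BlowUp.IsEffCartierIdeal (thetaIdeal k S.X₁ A.Z A.E) := by
  refine K562.PtMat.rad (k := k) (f₁ := S.f) (g₁ := S.g) (w₁ := S.zero) hdim.le hS.ex hS.inv₁
    (isFinLocFree_inv hS.inv₂) (fun h => K707.Base.isFinLocFree_of_rank (hQ.le _ _ h).1) (fun g _ h => hQ.pull g _ h)
    hadm A.ok hl fun z => ?_
  obtain ⟨U, hU, hA, D, hz, hD⟩ := hS.exists_local hdim (hQ.le _ _ A.ok) z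
  exact ⟨U, hz, hU, D.n, D.e, D.f, D.d, D.ube, D.ubf, D.hd, hD⟩

/-- The stabilisers act trivially. -/
theorem trivStab {S : ShortComplex X.Modules} (hS : SeqOK k S) : TrivStab A (thetaIdeal k S.X₁ A.Z A.E) := by
  obtain ⟨i1, i2, i3, i4⟩ := fib hdim (Spec.map (CommRingCat.ofHom (algebraMap k k)))
  have hE : FlatMod.IsFinLocFree A.E := K707.Base.isFinLocFree_of_rank (hQ.le _ _ A.ok).1
  refine FixFin.trivStab_theta hdim.le i4 (isFinLocFree_inv hS.inv₁) hE S.g (r := r) (L := S.X₂) (R := S.X₃)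
    (fun t G ⟨e⟩ => ?_) fun z => ?_
  · have h1 : SSB r (Spec.map (CommRingCat.ofHom (algebraMap k k))) G :=
      K319.SumFam.ssb_of_iso e.symm (K319.SumFam.ssb_pl (hQ.le _ _ A.ok) t)
    exact ⟨h1, hS.ptOK hdim h1⟩
  · obtain ⟨U, hU, hA, D, hz, hD⟩ := hS.exists_local hdim (hQ.le _ _ A.ok) z
    exact ⟨⟨U, hU⟩, isAffineOpen_top _, D.n, D.e, D.f, D.d, hz, D.ube, D.ubf, D.hd, hD⟩

/-- **The theta divisor of the atlas.** -/
theorem core [CharZero k] (hadm : ∀ {E₀ N₀ : (PicF.XT (st k X) (T0 k)).Modules}, Q (T0 k) E₀ → PicF.IsInvertible N₀ →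
      K562.AdmExt.Adm Q E₀ N₀) (hsm : Smooth A.Z.hom) (hl : K562.LiftPt.HasLift Q A.Z A.E)
    {N : X.Modules} (hN : PicF.IsInvertible N) (hNd : Curv2.deg k X N 1 = (Curv2.genus k X : ℤ) - 1)
    (φ : ((ModFun.modProb (st k X)).restrict Q).Hom ⊤ A.M) (hφ : K562.Jump.IsQuot A φ)
    (hs : K562.Jump.SuppCond A N)
    (hd : ((thetaIdeal k N A.Z A.E).support : Set A.Z.left) ⊆
      closure (K562.Jump.stab A ∩ ((thetaIdeal k N A.Z A.E).support : Set A.Z.left))) :
    BlowUp.IsEffCartierIdeal (thetaIdeal k N A.Z A.E) ∧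
      (Scheme.IdealSheafData.vanishingIdeal
        ⟨BunMod.thetaLocus (st k X) Q φ N, isClosed_closure⟩).comap A.π.left = thetaIdeal k N A.Z A.E ∧
      BlowUp.IsEffCartierIdeal (Scheme.IdealSheafData.vanishingIdeal
        ⟨BunMod.thetaLocus (st k X) Q φ N, isClosed_closure⟩) := by
  obtain ⟨S, rfl, hS⟩ := exists_seq hdim hN hNd
  obtain ⟨hrad, heff⟩ := rad hdim hQ A hadm hsm hl hS
  have hE : FlatMod.IsFinLocFree A.E := K707.Base.isFinLocFree_of_rank (hQ.le _ _ A.ok).1
  exact ⟨heff, Descend.main heff hrad (fun g => FixFin.comap_sg hdim.le (isFinLocFree_inv hS.inv₁) hE g)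
    (trivStab hdim hQ A hS) _ (K562.Jump.closure_jumpLocus A S.X₁ φ (fun _ => trivial) hφ
      (fun c => hQ.pull c _ A.ok) hs hd)⟩

end Groth.Agent.BunMod.K356.ThetaMain
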